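import Groth.Prelude.Def_Cone
import Groth.Agent.Lib.ProjPt.Basic
import Mathlib.AlgebraicGeometry.Gluing
import Mathlib.AlgebraicGeometry.Morphisms.Affine
import Mathlib.AlgebraicGeometry.Morphisms.UnderlyingMap

/-!
# The retraction of the pointed affine cone
-/

universe u

set_option backward.isDefEq.respectTransparency false
set_option maxHeartbeats 400000

open AlgebraicGeometry CategoryTheory CategoryTheory.Limits HomogeneousLocalization TopologicalSpace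

namespace GrothLib.Cone8

variable {R A : Type u} [CommRing R] [CommRing A] [Algebra R A] {𝒜 : ℕ → Submodule R A} [GradedAlgebra 𝒜]

theorem coneChart_ι {d : ℕ} {f : A} (hf : f ∈ 𝒜 d) (hd : 0 < d) :
    Cone.chart hf hd ≫ (Cone.pointed 𝒜).ι =
      Spec.map (CommRingCat.ofHom (algebraMap A (Localization.Away f))) :=
  IsOpenImmersion.lift_fac _ _ _

instance isOpenImmersion_coneChart {d : ℕ} {f : A} (hf : f ∈ 𝒜 d) (hd : 0 < d) :
    IsOpenImmersion (Cone.chart hf hd) := by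
  have : IsOpenImmersion (Spec.map (CommRingCat.ofHom (algebraMap A (Localization.Away f)))) :=
    IsOpenImmersion.of_isLocalization f
  have : IsOpenImmersion (Cone.chart hf hd ≫ (Cone.pointed 𝒜).ι) := by rw [coneChart_ι]; infer_instance
  exact IsOpenImmersion.of_comp _ (Cone.pointed 𝒜).ι

theorem coe_opensRange_coneChart {d : ℕ} {f : A} (hf : f ∈ 𝒜 d) (hd : 0 < d) :
    (Cone.chart hf hd).opensRange = (Cone.pointed 𝒜).ι ⁻¹ᵁ Cone.coneOpen f := by
  ext x
  constructor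
  · rintro ⟨y, rfl⟩
    change (Cone.chart hf hd ≫ (Cone.pointed 𝒜).ι).base y ∈ Cone.coneOpen f
    rw [coneChart_ι]
    have h := PrimeSpectrum.localization_away_comap_range (Localization.Away f) f
    exact h.le ⟨y, rfl⟩
  · intro hx
    obtain ⟨y, hy⟩ := (PrimeSpectrum.localization_away_comap_range (Localization.Away f) f).ge
      (show (Cone.pointed 𝒜).ι.base x ∈ (PrimeSpectrum.basicOpen f : Set (PrimeSpectrum A)) from hx)
    refine ⟨y, (Cone.pointed 𝒜).ι.isOpenEmbedding.injective ?_⟩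
    change (Cone.chart hf hd ≫ (Cone.pointed 𝒜).ι).base y = _
    rw [coneChart_ι]
    exact hy

theorem exists_coneChart (x : (Cone.pointed 𝒜 : Scheme.{u})) :
    ∃ j : (n : ℕ+) × 𝒜 n, x ∈ (Cone.chart j.2.2 j.1.pos).opensRange := by
  simp only [coe_opensRange_coneChart]
  by_contra! H
  refine x.2 ((PrimeSpectrum.mem_zeroLocus _ _).2 ?_)
  exact (HomogeneousIdeal.toIdeal_irrelevant_le (I := ((Cone.pointed 𝒜).ι.base x).asIdeal) (𝒜 := 𝒜)).mpr
    fun m hm a ha => not_not.1 (H ⟨⟨m, hm⟩, a, ha⟩)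

variable (𝒜) in
/-- The standard cover of the pointed cone. -/
noncomputable def coneCover : (Cone.pointed 𝒜 : Scheme.{u}).AffineOpenCover where
  I₀ := (n : ℕ+) × 𝒜 n
  X j := .of (Localization.Away (j.2 : A))
  f j := Cone.chart j.2.2 j.1.pos
  idx x := (exists_coneChart x).choose
  covers x := (exists_coneChart x).choose_spec

variable (𝒜) in
/-- `Spec A_f ⟶ Spec A_(f) ⟶ Proj`. -/
noncomputable abbrev chartMap {d : ℕ} (f : A) (hd : 0 < d) (hf : f ∈ 𝒜 d) :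
    Spec (CommRingCat.of (Localization.Away f)) ⟶ Proj 𝒜 :=
  Spec.map (CommRingCat.ofHom (algebraMap (Away 𝒜 f) (Localization.Away f))) ≫ Proj.awayι 𝒜 f hf hd

/-- The homomorphism `A → Γ(T)` of a morphism `T ⟶ Spec A`. -/
noncomputable def gammaHom {T : Scheme.{u}} (a : T ⟶ Spec (CommRingCat.of A)) : A →+* Γ(T, ⊤) :=
  ((Scheme.ΓSpecIso (CommRingCat.of A)).inv ≫ a.appTop).hom

theorem comp_chartMap_eq_pt {T : Scheme.{u}} {d : ℕ} (f : A) (hd : 0 < d) (hf : f ∈ 𝒜 d)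
    (u : T ⟶ Spec (CommRingCat.of (Localization.Away f))) :
    ∃ hu : IsUnit (gammaHom (u ≫ Spec.map (CommRingCat.ofHom (algebraMap A (Localization.Away f)))) f),
      u ≫ chartMap 𝒜 f hd hf = ProjPt.pt 𝒜 hf hd (ProjPt.evalAway 𝒜
        (gammaHom (u ≫ Spec.map (CommRingCat.ofHom (algebraMap A (Localization.Away f))))) f hu) := by
  let α : Localization.Away f →+* Γ(T, ⊤) := ((Scheme.ΓSpecIso _).inv ≫ u.appTop).hom
  have hα : gammaHom (u ≫ Spec.map (CommRingCat.ofHom (algebraMap A (Localization.Away f)))) =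
      α.comp (algebraMap A (Localization.Away f)) := by
    rw [gammaHom, Scheme.Hom.comp_appTop, ← Category.assoc, ← Scheme.ΓSpecIso_inv_naturality, Category.assoc]
    rfl
  have hu : IsUnit (gammaHom (u ≫ Spec.map (CommRingCat.ofHom (algebraMap A (Localization.Away f)))) f) := by
    rw [hα]
    exact (IsLocalization.Away.algebraMap_isUnit f).map α
  refine ⟨hu, ?_⟩
  have h1 : u = T.toSpecΓ ≫ Spec.map ((Scheme.ΓSpecIso _).inv ≫ u.appTop) := ext_to_Spec (by simp)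
  have h2 : (IsLocalization.Away.lift f hu : Localization.Away f →+* Γ(T, ⊤)) = α :=
    IsLocalization.ringHom_ext (Submonoid.powers f) (by
      rw [IsLocalization.Away.lift_comp, hα])
  rw [ProjPt.pt, ProjPt.evalAway, h2, CommRingCat.ofHom_comp, Spec.map_comp]
  conv_lhs => rw [h1]
  simp [α, chartMap]

theorem cone_compat {n m : ℕ} (hn : 0 < n) (hm : 0 < m) (f g : A) (hf : f ∈ 𝒜 n) (hg : g ∈ 𝒜 m) :
    pullback.fst (Cone.chart hf hn) (Cone.chart hg hm) ≫ chartMap 𝒜 f hn hf =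
      pullback.snd _ _ ≫ chartMap 𝒜 g hm hg := by
  obtain ⟨hu, h1⟩ := comp_chartMap_eq_pt (T := pullback (Cone.chart hf hn) (Cone.chart hg hm)) f hn hf
    (pullback.fst _ _)
  obtain ⟨hv, h2⟩ := comp_chartMap_eq_pt (T := pullback (Cone.chart hf hn) (Cone.chart hg hm)) g hm hg
    (pullback.snd _ _)
  have h : pullback.fst (Cone.chart hf hn) (Cone.chart hg hm) ≫
      Spec.map (CommRingCat.ofHom (algebraMap A (Localization.Away f))) =
      pullback.snd _ _ ≫ Spec.map (CommRingCat.ofHom (algebraMap A (Localization.Away g))) := by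
    rw [← coneChart_ι hf hn, ← coneChart_ι hg hm, pullback.condition_assoc]
  rw [h1, h2]
  simp only [h] at hu ⊢
  exact ProjPt.pt_evalAway_eq 𝒜 hf hn _ hu hg hm hv

variable (𝒜) in
/-- The canonical retraction. -/
noncomputable def retraction : (Cone.pointed 𝒜 : Scheme.{u}) ⟶ Proj 𝒜 :=
  (coneCover 𝒜).openCover.glueMorphisms
    (fun (j : (n : ℕ+) × 𝒜 n) => chartMap 𝒜 (j.2 : A) j.1.pos j.2.2)
    (fun (j k : (n : ℕ+) × 𝒜 n) => cone_compat j.1.pos k.1.pos _ _ j.2.2 k.2.2)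

theorem cover_f_retraction (j : (n : ℕ+) × 𝒜 n) :
    (coneCover 𝒜).openCover.f j ≫ retraction 𝒜 = chartMap 𝒜 (j.2 : A) j.1.pos j.2.2 :=
  Scheme.Cover.ι_glueMorphisms (coneCover 𝒜).openCover _ _ j

theorem chart_retraction {d : ℕ} (f : A) (hd : 0 < d) (hf : f ∈ 𝒜 d) :
    Cone.chart hf hd ≫ retraction 𝒜 = chartMap 𝒜 f hd hf :=
  cover_f_retraction (⟨⟨d, hd⟩, f, hf⟩ : (n : ℕ+) × 𝒜 n)

variable (π : (Cone.pointed 𝒜 : Scheme.{u}) ⟶ Proj 𝒜)
  (hπ : ∀ (d : ℕ) (f : A) (hd : 0 < d) (hf : f ∈ 𝒜 d), Cone.chart hf hd ≫ π = chartMap 𝒜 f hd hf)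

include hπ in
theorem eq_retraction : π = retraction 𝒜 :=
  (coneCover 𝒜).openCover.hom_ext _ _ fun (j : (n : ℕ+) × 𝒜 n) =>
    (hπ j.1 j.2 j.1.pos j.2.2).trans (chart_retraction (j.2 : A) j.1.pos j.2.2).symm

include hπ in
theorem preimage_retraction {e : ℕ} (g : A) (he : 0 < e) (hg : g ∈ 𝒜 e) :
    π ⁻¹ᵁ Proj.basicOpen 𝒜 g = (Cone.pointed 𝒜).ι ⁻¹ᵁ Cone.coneOpen g := by
  ext x
  obtain ⟨⟨⟨d, hd⟩, f, hf⟩, y, rfl⟩ := exists_coneChart x
  change (Cone.chart hf hd ≫ π).base y ∈ Proj.basicOpen 𝒜 g ↔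
    (Cone.chart hf hd ≫ (Cone.pointed 𝒜).ι).base y ∈ Cone.coneOpen g
  rw [hπ d f hd hf, coneChart_ι]
  obtain ⟨hu, h⟩ := comp_chartMap_eq_pt (T := Spec (CommRingCat.of (Localization.Away f))) f hd hf (𝟙 _)
  rw [Category.id_comp] at h
  simp only [Category.id_comp] at hu h
  change y ∈ chartMap 𝒜 f hd hf ⁻¹ᵁ Proj.basicOpen 𝒜 g ↔ _
  rw [h, ProjPt.pt_evalAway_preimage_basicOpen 𝒜 hf hd _ hu hg he]
  change _ ↔ y ∈ Spec.map _ ⁻¹ᵁ (PrimeSpectrum.basicOpen g : (Spec (CommRingCat.of A)).Opens)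
  rw [show (PrimeSpectrum.basicOpen g : (Spec (CommRingCat.of A)).Opens) =
      (Spec (CommRingCat.of A)).basicOpen ((Scheme.ΓSpecIso (CommRingCat.of A)).inv g) from
      (basicOpen_eq_of_affine (R := CommRingCat.of A) g).symm, Scheme.preimage_basicOpen]
  rfl

include hπ in
theorem mem_iff {n : ℕ} {a : A} (ha : a ∈ 𝒜 n) (p : (Cone.pointed 𝒜 : Scheme.{u})) :
    a ∈ (π.base p).asHomogeneousIdeal.toIdeal ↔ a ∈ ((Cone.pointed 𝒜).ι.base p).asIdeal := by
  set P := π.base p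
  set Q := (Cone.pointed 𝒜).ι.base p
  have hpos : ∀ {m : ℕ} {b : A}, 0 < m → b ∈ 𝒜 m → (b ∉ P.asHomogeneousIdeal.toIdeal ↔ b ∉ Q.asIdeal) :=
    fun {m b} hm hb => SetLike.ext_iff.1 (preimage_retraction π hπ b hm hb) p
  obtain ⟨⟨⟨d, hd⟩, f, hf⟩, hp⟩ := exists_coneChart p
  rw [coe_opensRange_coneChart] at hp
  have hfQ : f ∉ Q.asIdeal := hp
  have hfP : f ∉ P.asHomogeneousIdeal.toIdeal := (hpos hd hf).2 hfQ
  have h := not_iff_not.1 (hpos (Nat.add_pos_right n hd) (SetLike.mul_mem_graded ha hf))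
  rw [P.isPrime.mul_mem_iff_mem_or_mem, Q.isPrime.mul_mem_iff_mem_or_mem] at h
  exact ⟨fun ha' => (h.1 (.inl ha')).resolve_right hfQ, fun ha' => (h.2 (.inl ha')).resolve_right hfP⟩

include hπ in
theorem asHomogeneousIdeal_eq (p : (Cone.pointed 𝒜 : Scheme.{u})) :
    (π.base p).asHomogeneousIdeal = (((Cone.pointed 𝒜).ι.base p).asIdeal).homogeneousCore 𝒜 := by
  classical
  apply HomogeneousIdeal.toIdeal_injective
  ext x
  rw [Ideal.IsHomogeneous.mem_iff _ (π.base p).asHomogeneousIdeal.isHomogeneous,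
    Ideal.IsHomogeneous.mem_iff _ (HomogeneousIdeal.isHomogeneous _)]
  refine forall_congr' fun i => ?_
  rw [mem_iff π hπ (Subtype.coe_prop _)]
  exact ⟨Ideal.mem_homogeneousCore_of_homogeneous_of_mem ⟨i, Subtype.coe_prop _⟩,
    fun h => Ideal.toIdeal_homogeneousCore_le 𝒜 _ h⟩

include hπ in
theorem surjective_retraction : Surjective π := by
  refine ⟨fun x => ?_⟩
  let q : Spec (CommRingCat.of A) := ⟨x.asHomogeneousIdeal.toIdeal, x.isPrime⟩
  have hq : q ∈ Cone.pointed 𝒜 := fun h => x.not_irrelevant_le ((PrimeSpectrum.mem_zeroLocus _ _).1 h)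
  refine ⟨⟨q, hq⟩, ProjectiveSpectrum.ext ?_⟩
  rw [asHomogeneousIdeal_eq π hπ]
  exact HomogeneousIdeal.toIdeal_injective
    (Ideal.IsHomogeneous.toIdeal_homogeneousCore_eq_self x.asHomogeneousIdeal.isHomogeneous)

include hπ in
theorem isAffineHom_retraction : IsAffineHom π := by
  refine isAffineHom_of_forall_exists_isAffineOpen _ fun x => ?_
  obtain ⟨j, hx⟩ : ∃ j : (n : ℕ+) × 𝒜 n, x ∈ Proj.basicOpen 𝒜 (j.2 : A) := by
    by_contra! H
    refine x.not_irrelevant_le ((HomogeneousIdeal.toIdeal_irrelevant_le _).mpr fun m hm a ha => ?_)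
    exact not_not.1 (H ⟨⟨m, hm⟩, a, ha⟩)
  exact ⟨_, hx, Proj.isAffineOpen_basicOpen 𝒜 _ j.2.2 j.1.pos, by
    rw [preimage_retraction π hπ _ j.1.pos j.2.2, ← coe_opensRange_coneChart j.2.2 j.1.pos]
    exact isAffineOpen_opensRange _⟩

end GrothLib.Cone8
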