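import Groth.Agent.Lib.Cone8.PCone
import Groth.Agent.Lib.GradedAlg.Periodic
import Groth.Agent.Lib.GradedAlg.Spectrum

/-!
# Generation in degree one in large degrees
-/

universe u

set_option backward.isDefEq.respectTransparency false
set_option maxHeartbeats 400000

open AlgebraicGeometry CategoryTheory CategoryTheory.Limits HomogeneousLocalization TopologicalSpace DirectSum

namespace GrothLib.Cone8

variable {R A B : Type u} [CommRing R] [CommRing A] [Algebra R A] {𝒜 : ℕ → Submodule R A} [GradedAlgebra 𝒜]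
  [CommRing B] [Algebra R B] {ℬ : ℕ → Submodule R B} [GradedAlgebra ℬ] (φ : 𝒜 →+*ᵍ ℬ)

theorem away_map_bijective_of_isIso (p : (PCone.dom φ : Scheme.{u}) ⟶ Proj 𝒜)
    (hp : ∀ (d : ℕ) (f : A) (hd : 0 < d) (hf : f ∈ 𝒜 d), PCone.chart φ hf hd ≫ p =
      Spec.map (CommRingCat.ofHom (Away.map φ f)) ≫ Proj.awayι 𝒜 f hf hd) [IsIso p]
    {d : ℕ} (f : A) (hd : 0 < d) (hf : f ∈ 𝒜 d) : Function.Bijective (Away.map φ f) := by
  have H : IsPullback (Spec.map (CommRingCat.ofHom (Away.map φ f))) (PCone.chart φ hf hd)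
      (Proj.awayι 𝒜 f hf hd) p := by
    refine IsOpenImmersion.isPullback _ _ _ _ (hp d f hd hf) ?_
    rw [Proj.opensRange_awayι, opensRange_chart, preimage_basicOpen φ p hp f hd hf]
  have h1 : IsIso (Spec.map (CommRingCat.ofHom (Away.map φ f))) :=
    MorphismProperty.of_isPullback (P := MorphismProperty.isomorphisms Scheme.{u}) H.flip
      (inferInstanceAs (IsIso p))
  have h2 : IsIso (Scheme.Spec.map (CommRingCat.ofHom (Away.map φ f)).op) := h1
  have h3 := (isIso_op_iff _).1 (isIso_of_fully_faithful Scheme.Spec (CommRingCat.ofHom (Away.map φ f)).op)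
  exact (ConcreteCategory.isIso_iff_bijective (CommRingCat.ofHom (Away.map φ f))).1 h3

/-- A large power of a span lies in an ideal containing powers of the generators. -/
theorem mul_prod_mem {ι : Type*} {P : ℕ → Submodule R B} [Fintype ι] (l : ι → B) (j : ℕ) (t : B) {n : ℕ}
    (hP : ∀ a b, P a * P b ≤ P (a + b)) (hl : ∀ i, l i ∈ P 1) (ht : ∀ i, l i ^ j * t ∈ P (j + n))
    (h1 : (1 : B) ∈ P 0) (k : ι → ℕ) (hk : ∃ i, j ≤ k i) :
    (∏ i, l i ^ k i) * t ∈ P (∑ i, k i + n) := by
  classical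
  obtain ⟨i, hi⟩ := hk
  have hpow : ∀ i m, l i ^ m ∈ P m := fun i m => by
    induction m with
    | zero => simpa using h1
    | succ m ih => rw [pow_succ]; exact hP m 1 (Submodule.mul_mem_mul ih (hl i))
  have hprod : ∀ s : Finset ι, ∏ i ∈ s, l i ^ k i ∈ P (∑ i ∈ s, k i) := fun s => by
    induction s using Finset.induction_on with
    | empty => simpa using h1
    | insert a s ha ih =>
      rw [Finset.prod_insert ha, Finset.sum_insert ha]
      exact hP _ _ (Submodule.mul_mem_mul (hpow _ _) ih)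
  rw [← Finset.mul_prod_erase _ (fun i => l i ^ k i) (Finset.mem_univ i),
    ← Finset.add_sum_erase _ k (Finset.mem_univ i), ← Nat.sub_add_cancel hi, pow_add]
  rw [show l i ^ (k i - j) * l i ^ j * (∏ x ∈ Finset.univ.erase i, l x ^ k x) * t =
    (l i ^ (k i - j) * (∏ x ∈ Finset.univ.erase i, l x ^ k x)) * (l i ^ j * t) by ring]
  have := hP _ _ (Submodule.mul_mem_mul (hP _ _ (Submodule.mul_mem_mul (hpow i (k i - j)) (hprod (Finset.univ.erase i)))) (ht i))
  rwa [show k i - j + ∑ x ∈ Finset.univ.erase i, k x + (j + n) =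
    k i - j + j + ∑ x ∈ Finset.univ.erase i, k x + n by omega] at this

variable (h0 : Set.BijOn φ (𝒜 0) (ℬ 0)) (h1 : Set.BijOn φ (𝒜 1) (ℬ 1))
  (hgen : ∀ n : ℕ, 1 ≤ n → 𝒜 n = 𝒜 1 ^ n)

include h1 hgen in
theorem map_mem_pow {n : ℕ} {a : A} (ha : a ∈ 𝒜 (n + 1)) : φ a ∈ ℬ 1 ^ (n + 1) := by
  rw [hgen (n + 1) (by omega)] at ha
  induction n generalizing a with
  | zero => rw [zero_add, pow_one] at ha ⊢; exact h1.mapsTo ha
  | succ n ih =>
    rw [pow_succ] at ha ⊢
    induction ha using Submodule.mul_induction_on' with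
    | mem_mul_mem x hx y hy => rw [map_mul]; exact Submodule.mul_mem_mul (ih hx) (h1.mapsTo hy)
    | add x _ y _ hx hy => rw [map_add]; exact add_mem hx hy

theorem zero_mul_pow_le (n : ℕ) : ℬ 0 * ℬ 1 ^ (n + 1) ≤ ℬ 1 ^ (n + 1) := by
  rw [pow_succ', ← mul_assoc]
  exact mul_le_mul' ((GradedAlg.mul_le_add ℬ 0 1).trans (by rw [zero_add])) le_rfl

include h1 hgen in
theorem eventually_eq_pow [Algebra.FiniteType (ℬ 0) B] (hdom : PCone.dom φ = ⊤)
    (hsurj : ∀ (f : A), f ∈ 𝒜 1 → Function.Surjective (Away.map φ f)) :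
    ∃ n₀ : ℕ, ∀ n : ℕ, n₀ ≤ n → ℬ n = ℬ 1 ^ n := by
  classical
  -- every element of positive degree has a power in the ideal generated by degree one
  let I : Ideal B := Ideal.span (ℬ 1 : Set B)
  have hI : I.IsHomogeneous ℬ := Ideal.homogeneous_span ℬ _ fun x hx => ⟨1, hx⟩
  have hrad : ∀ {d : ℕ} (g : B), 0 < d → g ∈ ℬ d → g ∈ I.radical := by
    intro d g hd hg
    refine GradedAlg.mem_radical_of_forall_mem ℬ hI (HomogeneousIdeal.mem_irrelevant_of_mem ℬ hd hg)
      fun y hy => ?_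
    exfalso
    have hy' : y ∈ PCone.dom φ := by rw [hdom]; trivial
    obtain ⟨⟨f, e, he, hf⟩, hyf⟩ := Opens.mem_iSup.1 hy'
    obtain ⟨e, rfl⟩ : ∃ e', e = e' + 1 := ⟨e - 1, by omega⟩
    refine hyf (hy ?_)
    have hle : ℬ 1 ^ (e + 1) ≤ I.restrictScalars R := by
      rw [pow_succ]
      exact Submodule.mul_le.2 fun x _ z hz => Ideal.mul_mem_left _ _ (Ideal.subset_span hz)
    exact hle (map_mem_pow φ h1 hgen hf)
  obtain ⟨r, g, δ, hδ, hg, hadj⟩ := GradedAlg.exists_homogeneous_generators ℬ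
  choose N hN using fun i => Ideal.mem_radical_iff.1 (hrad (g i) (hδ i) (hg i))
  let n₁ := (∑ i, (N i + 1) * δ i) + 1
  have hstep : ∀ n, n₁ ≤ n → ℬ n ≤ ℬ 1 * ℬ (n - 1) := by
    intro n hn a ha
    have hle : ∀ x ∈ Submodule.span (ℬ 0) {x : B | ∃ k : Fin r → ℕ, ∑ i, k i * δ i = n ∧ ∏ i, g i ^ k i = x},
        x ∈ I := by
      intro x hx
      induction hx using Submodule.span_induction with
      | mem x hx =>
        obtain ⟨k, hk, rfl⟩ := hx
        obtain ⟨i, hi⟩ : ∃ i, N i ≤ k i := by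
          by_contra! H
          have : n ≤ ∑ i, (N i + 1) * δ i := hk ▸ Finset.sum_le_sum fun i _ =>
            Nat.mul_le_mul_right _ (by have := H i; omega)
          omega
        rw [← Finset.mul_prod_erase _ _ (Finset.mem_univ i), ← Nat.sub_add_cancel hi, pow_add,
          mul_comm (g i ^ (k i - N i)), mul_assoc]
        exact Ideal.mul_mem_right _ _ (hN i)
      | zero => exact zero_mem _
      | add x y _ _ hx hy => exact add_mem hx hy
      | smul c x _ hx => exact Ideal.mul_mem_left _ _ hx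
    have haI := hle a (GradedAlg.mem_span_monomials ℬ hg hadj ha)
    suffices H : ∀ x ∈ I, ∀ b : B, (DirectSum.decompose ℬ (b * x) n : B) ∈ ℬ 1 * ℬ (n - 1) by
      have := H a haI 1
      rwa [one_mul, DirectSum.decompose_of_mem_same ℬ ha] at this
    intro x hx
    induction hx using Submodule.span_induction with
    | mem l hl =>
      intro b
      rw [coe_decompose_mul_of_right_mem_of_le ℬ hl (show 1 ≤ n by omega), mul_comm _ l]
      exact Submodule.mul_mem_mul hl (Subtype.coe_prop _)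
    | zero => intro b; rw [mul_zero, decompose_zero, DirectSum.zero_apply, ZeroMemClass.coe_zero]; exact zero_mem _
    | add x y _ _ hx hy =>
      intro b
      rw [mul_add, decompose_add, DirectSum.add_apply, Submodule.coe_add]
      exact add_mem (hx b) (hy b)
    | smul c x _ hx => intro b; rw [smul_eq_mul, ← mul_assoc]; exact hx _
  -- finitely many generators of degrees `1` and `n₁`
  obtain ⟨L, hL, hLeq⟩ := GradedAlg.exists_finset_eq_zero_mul ℬ 1
  obtain ⟨T, hT, hTeq⟩ := GradedAlg.exists_finset_eq_zero_mul ℬ n₁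
  have hbound : ∀ (l : {x // x ∈ L}) (t : {x // x ∈ T}), ∃ j, ∀ j', j ≤ j' →
      (l : B) ^ j' * (t : B) ∈ ℬ 1 ^ (j' + n₁) := by
    intro l t
    obtain ⟨f, hf, hfl⟩ := h1.surjOn (hL l.2)
    have hl1 : φ f ∈ ℬ 1 := φ.2 hf
    obtain ⟨y, hy⟩ := hsurj f hf (Away.mk ℬ hl1 n₁ (t : B) (by rw [smul_eq_mul, mul_one]; exact hT t.2))
    obtain ⟨k, a, ha, rfl⟩ := Away.mk_surjective 𝒜 hf y
    rw [Away.map_mk φ f hf] at hy
    have h := congrArg HomogeneousLocalization.val hy
    rw [Away.val_mk, Away.val_mk, Localization.mk_eq_mk_iff, Localization.r_iff_exists] at h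
    obtain ⟨⟨c, m, rfl⟩, hm⟩ := h
    change φ f ^ m * (φ f ^ n₁ * φ a) = φ f ^ m * (φ f ^ k * (t : B)) at hm
    refine ⟨m + k + 1, fun j' hj' => ?_⟩
    obtain ⟨q, rfl⟩ : ∃ q, j' = q + 1 + (m + k) := ⟨j' - (m + k + 1), by omega⟩
    have hl : (l : B) = φ f := hfl.symm
    have key : φ f ^ (q + 1 + (m + k)) * (t : B) = φ (f ^ (q + 1 + m + n₁) * a) := by
      rw [map_mul, map_pow]
      calc φ f ^ (q + 1 + (m + k)) * (t : B) = φ f ^ (q + 1) * (φ f ^ m * (φ f ^ k * t)) := by ring
        _ = _ := by rw [← hm]; ring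
    rw [hl, key]
    have hmem : f ^ (q + 1 + m + n₁) * a ∈ 𝒜 ((q + m + n₁ + k) + 1) := by
      have h2 := SetLike.mul_mem_graded (SetLike.pow_mem_graded (q + 1 + m + n₁) hf) ha
      simp only [smul_eq_mul, mul_one] at h2
      rwa [show q + 1 + m + n₁ + k = q + m + n₁ + k + 1 by omega] at h2
    have h3 := map_mem_pow φ h1 hgen hmem
    rwa [show q + 1 + (m + k) + n₁ = q + m + n₁ + k + 1 by omega]
  choose j hj using hbound
  let J := (Finset.univ : Finset ({x // x ∈ L} × {x // x ∈ T})).sup (fun p => j p.1 p.2) + 1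
  let M := L.card * J + 1
  have hprod : ∀ (t : B), t ∈ T → ∀ m, M ≤ m → ∀ x ∈ Submodule.span R (L : Set B) ^ m,
      x * t ∈ ℬ 1 ^ (m + n₁) := by
    intro t ht m hm x hx
    rw [Submodule.span_pow] at hx
    induction hx using Submodule.span_induction with
    | mem x hx =>
      obtain ⟨w, rfl⟩ := Set.mem_pow.1 hx
      let v : Fin m → {x // x ∈ L} := fun i => ⟨(w i : B), (w i).2⟩
      let k : {x // x ∈ L} → ℕ := fun l => (Finset.univ.filter fun i => v i = l).card
      have hw : (List.ofFn fun i => (w i : B)).prod = ∏ l : {x // x ∈ L}, (l : B) ^ k l := by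
        rw [List.prod_ofFn, ← Finset.prod_fiberwise Finset.univ v (fun i => (w i : B))]
        refine Finset.prod_congr rfl fun l _ => ?_
        exact Finset.prod_eq_pow_card fun i hi => congrArg Subtype.val (Finset.mem_filter.1 hi).2
      have hk : ∑ l, k l = m := by
        have := (Finset.card_eq_sum_card_fiberwise (f := v) (s := Finset.univ) (t := Finset.univ)
          fun _ _ => Finset.mem_univ _).symm
        simpa using this
      obtain ⟨l, hl⟩ : ∃ l, J ≤ k l := by
        by_contra! H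
        have : ∑ l, k l ≤ ∑ _l : {x // x ∈ L}, J := Finset.sum_le_sum fun l _ => (H l).le
        rw [hk, Finset.sum_const, Finset.card_univ, Fintype.card_coe, smul_eq_mul] at this
        simp only [M] at hm
        omega
      rw [hw, ← hk]
      refine mul_prod_mem (P := fun a => ℬ 1 ^ a) (fun l : {x // x ∈ L} => (l : B)) J t
        (fun a b => (pow_add _ a b).ge) (fun l => (pow_one (ℬ 1)).ge (hL l.2))
        (fun l' => hj l' ⟨t, ht⟩ J ?_) (by rw [pow_zero]; exact Submodule.one_le.1 le_rfl) k ⟨l, hl⟩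
      exact le_trans (Finset.le_sup (f := fun p : {x // x ∈ L} × {x // x ∈ T} => j p.1 p.2)
        (Finset.mem_univ (l', ⟨t, ht⟩))) (Nat.le_succ _)
    | zero => rw [zero_mul]; exact zero_mem _
    | add x y _ _ hx hy => rw [add_mul]; exact add_mem hx hy
    | smul c x _ hx => rw [smul_mul_assoc]; exact Submodule.smul_mem _ c hx
  refine ⟨n₁ + M, fun n hn => le_antisymm ?_ ((GradedAlg.pow_le_mul ℬ 1 n).trans (by rw [mul_one]))⟩
  have hdescend : ∀ k, ℬ (n₁ + k) ≤ ℬ 1 ^ k * ℬ n₁ := by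
    intro k
    induction k with
    | zero => rw [pow_zero, one_mul, add_zero]
    | succ k ih =>
      refine (hstep (n₁ + (k + 1)) (by omega)).trans ?_
      rw [show n₁ + (k + 1) - 1 = n₁ + k by omega, pow_succ', mul_assoc]
      exact mul_le_mul' le_rfl ih
  have hB0 : ∀ k, ℬ 1 ^ k ≤ ℬ 0 * Submodule.span R (L : Set B) ^ k := by
    intro k
    induction k with
    | zero =>
      rw [pow_zero, pow_zero, mul_one, Submodule.one_le]
      exact SetLike.one_mem_graded ℬ
    | succ k ih =>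
      rw [pow_succ, pow_succ]
      calc ℬ 1 ^ k * ℬ 1 ≤ (ℬ 0 * Submodule.span R (L : Set B) ^ k) * (ℬ 0 * Submodule.span R (L : Set B)) :=
            mul_le_mul' ih hLeq.le
        _ = (ℬ 0 * ℬ 0) * (Submodule.span R (L : Set B) ^ k * Submodule.span R (L : Set B)) :=
            mul_mul_mul_comm _ _ _ _
        _ ≤ _ := mul_le_mul' ((GradedAlg.mul_le_add ℬ 0 0).trans (by rw [add_zero])) le_rfl
  obtain ⟨q, rfl⟩ : ∃ q, n = n₁ + (M + q) := ⟨n - n₁ - M, by omega⟩
  refine (hdescend _).trans ?_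
  calc ℬ 1 ^ (M + q) * ℬ n₁
      ≤ (ℬ 0 * Submodule.span R (L : Set B) ^ (M + q)) * (ℬ 0 * Submodule.span R (T : Set B)) :=
        mul_le_mul' (hB0 _) hTeq.le
    _ = (ℬ 0 * ℬ 0) * (Submodule.span R (L : Set B) ^ (M + q) * Submodule.span R (T : Set B)) :=
        mul_mul_mul_comm _ _ _ _
    _ ≤ ℬ 0 * ℬ 1 ^ (M + q + n₁) := by
        refine mul_le_mul' ((GradedAlg.mul_le_add ℬ 0 0).trans (by rw [add_zero])) ?_
        refine Submodule.mul_le.2 fun x hx t ht => ?_
        induction ht using Submodule.span_induction with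
        | mem t ht => exact hprod t ht _ (Nat.le_add_right _ _) x hx
        | zero => rw [mul_zero]; exact zero_mem _
        | add t t' _ _ h h' => rw [mul_add]; exact add_mem h h'
        | smul c t _ h => rw [mul_smul_comm]; exact Submodule.smul_mem _ c h
    _ ≤ _ := by
        rw [show M + q + n₁ = (M + q + n₁ - 1) + 1 by omega, show n₁ + (M + q) = (M + q + n₁ - 1) + 1 by omega]
        exact zero_mul_pow_le _

end GrothLib.Cone8
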