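import Groth.Prelude.Def_PCone
import Groth.Agent.Lib.GradedAlg.ProjMap
import Mathlib.AlgebraicGeometry.Gluing

/-!
# The morphism `G(φ) ⟶ Proj` of a graded homomorphism
-/

universe u

set_option backward.isDefEq.respectTransparency false
set_option maxHeartbeats 400000

open AlgebraicGeometry CategoryTheory CategoryTheory.Limits HomogeneousLocalization TopologicalSpace

namespace GrothLib.Cone8

variable {R A B : Type u} [CommRing R] [CommRing A] [Algebra R A] {𝒜 : ℕ → Submodule R A} [GradedAlgebra 𝒜]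
  [CommRing B] [Algebra R B] {ℬ : ℕ → Submodule R B} [GradedAlgebra ℬ] (φ : 𝒜 →+*ᵍ ℬ)

theorem gmem {d : ℕ} {f : A} (hf : f ∈ 𝒜 d) : φ f ∈ ℬ d := φ.2 hf

theorem chart_ι {d : ℕ} {f : A} (hf : f ∈ 𝒜 d) (hd : 0 < d) :
    PCone.chart φ hf hd ≫ (PCone.dom φ).ι = Proj.awayι ℬ (φ f) (gmem φ hf) hd :=
  IsOpenImmersion.lift_fac _ _ _

instance isOpenImmersion_chart {d : ℕ} {f : A} (hf : f ∈ 𝒜 d) (hd : 0 < d) :
    IsOpenImmersion (PCone.chart φ hf hd) := by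
  have : IsOpenImmersion (PCone.chart φ hf hd ≫ (PCone.dom φ).ι) := by rw [chart_ι]; infer_instance
  exact IsOpenImmersion.of_comp _ (PCone.dom φ).ι

theorem opensRange_chart {d : ℕ} {f : A} (hf : f ∈ 𝒜 d) (hd : 0 < d) :
    (PCone.chart φ hf hd).opensRange = (PCone.dom φ).ι ⁻¹ᵁ Proj.basicOpen ℬ (φ f) := by
  rw [← Proj.opensRange_awayι ℬ (φ f) (gmem φ hf) hd]
  ext x
  constructor
  · rintro ⟨y, rfl⟩
    exact ⟨y, by rw [← chart_ι φ hf hd]; rfl⟩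
  · rintro ⟨y, hy⟩
    refine ⟨y, (PCone.dom φ).ι.isOpenEmbedding.injective ?_⟩
    rw [← chart_ι φ hf hd] at hy
    exact hy

theorem exists_chart (x : (PCone.dom φ : Scheme.{u})) :
    ∃ j : (n : ℕ+) × 𝒜 n, x ∈ (PCone.chart φ j.2.2 j.1.pos).opensRange := by
  obtain ⟨⟨f, d, hd, hf⟩, hx⟩ := Opens.mem_iSup.1 x.2
  exact ⟨⟨⟨d, hd⟩, f, hf⟩, by rw [opensRange_chart]; exact hx⟩

/-- The standard cover of `G(φ)`. -/
noncomputable def domCover : (PCone.dom φ : Scheme.{u}).AffineOpenCover where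
  I₀ := (n : ℕ+) × 𝒜 n
  X j := .of (Away ℬ (φ (j.2 : A)))
  f j := PCone.chart φ j.2.2 j.1.pos
  idx x := (exists_chart φ x).choose
  covers x := (exists_chart φ x).choose_spec

theorem away_map_awayMap {n m : ℕ} {f g x : A} (hf : f ∈ 𝒜 n) (hg : g ∈ 𝒜 m) (hx : x = f * g) :
    (Away.map φ x).comp (awayMap 𝒜 hg hx) =
      (awayMap ℬ (gmem φ hg) (show φ x = φ f * φ g by rw [hx, map_mul])).comp (Away.map φ f) := by
  ext y
  obtain ⟨k, a, ha, rfl⟩ := Away.mk_surjective 𝒜 hf y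
  simp only [RingHom.comp_apply, awayMap_mk, Away.map_mk φ f hf,
    Away.map_mk φ x (hx ▸ SetLike.mul_mem_graded hf hg)]
  simp only [Away.val_mk, map_mul, map_pow]

theorem proj_compat {n m : ℕ} (hn : 0 < n) (hm : 0 < m) (f g : A) (hf : f ∈ 𝒜 n) (hg : g ∈ 𝒜 m) :
    pullback.fst (Proj.awayι ℬ (φ f) (gmem φ hf) hn) (Proj.awayι ℬ (φ g) (gmem φ hg) hm) ≫
        Spec.map (CommRingCat.ofHom (Away.map φ f)) ≫ Proj.awayι 𝒜 f hf hn =
      pullback.snd _ _ ≫ Spec.map (CommRingCat.ofHom (Away.map φ g)) ≫ Proj.awayι 𝒜 g hg hm := by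
  rw [← cancel_epi (Proj.pullbackAwayιIso ℬ (gmem φ hf) hn (gmem φ hg) hm (map_mul φ f g)).inv]
  rw [Proj.pullbackAwayιIso_inv_fst_assoc, Proj.pullbackAwayιIso_inv_snd_assoc]
  simp only [← Spec.map_comp_assoc, ← CommRingCat.ofHom_comp]
  rw [← away_map_awayMap φ hf hg rfl, ← away_map_awayMap φ hg hf (mul_comm f g)]
  simp only [CommRingCat.ofHom_comp, Spec.map_comp, Category.assoc]
  rw [Proj.SpecMap_awayMap_awayι, Proj.SpecMap_awayMap_awayι]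
  rfl

theorem dom_compat {n m : ℕ} (hn : 0 < n) (hm : 0 < m) (f g : A) (hf : f ∈ 𝒜 n) (hg : g ∈ 𝒜 m) :
    pullback.fst (PCone.chart φ hf hn) (PCone.chart φ hg hm) ≫
        Spec.map (CommRingCat.ofHom (Away.map φ f)) ≫ Proj.awayι 𝒜 f hf hn =
      pullback.snd _ _ ≫ Spec.map (CommRingCat.ofHom (Away.map φ g)) ≫ Proj.awayι 𝒜 g hg hm := by
  have h : pullback.fst (PCone.chart φ hf hn) (PCone.chart φ hg hm) ≫ Proj.awayι ℬ (φ f) (gmem φ hf) hn =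
      pullback.snd _ _ ≫ Proj.awayι ℬ (φ g) (gmem φ hg) hm := by
    rw [← chart_ι φ hf hn, ← chart_ι φ hg hm, pullback.condition_assoc]
  have key := pullback.lift (pullback.fst _ _) (pullback.snd _ _) h ≫= proj_compat φ hn hm f g hf hg
  rwa [pullback.lift_fst_assoc, pullback.lift_snd_assoc] at key

/-- The morphism `G(φ) ⟶ Proj 𝒜`. -/
noncomputable def domMap : (PCone.dom φ : Scheme.{u}) ⟶ Proj 𝒜 :=
  (domCover φ).openCover.glueMorphisms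
    (fun (j : (n : ℕ+) × 𝒜 n) => Spec.map (CommRingCat.ofHom (Away.map φ (j.2 : A))) ≫
      Proj.awayι 𝒜 _ j.2.2 j.1.pos)
    (fun (j k : (n : ℕ+) × 𝒜 n) => dom_compat φ j.1.pos k.1.pos _ _ j.2.2 k.2.2)

theorem cover_f_domMap (j : (n : ℕ+) × 𝒜 n) :
    (domCover φ).openCover.f j ≫ domMap φ =
      Spec.map (CommRingCat.ofHom (Away.map φ (j.2 : A))) ≫ Proj.awayι 𝒜 _ j.2.2 j.1.pos :=
  Scheme.Cover.ι_glueMorphisms (domCover φ).openCover _ _ j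

theorem chart_domMap {d : ℕ} (f : A) (hd : 0 < d) (hf : f ∈ 𝒜 d) :
    PCone.chart φ hf hd ≫ domMap φ = Spec.map (CommRingCat.ofHom (Away.map φ f)) ≫ Proj.awayι 𝒜 f hf hd :=
  cover_f_domMap φ (⟨⟨d, hd⟩, f, hf⟩ : (n : ℕ+) × 𝒜 n)

variable (p : (PCone.dom φ : Scheme.{u}) ⟶ Proj 𝒜)
  (hp : ∀ (d : ℕ) (f : A) (hd : 0 < d) (hf : f ∈ 𝒜 d), PCone.chart φ hf hd ≫ p =
    Spec.map (CommRingCat.ofHom (Away.map φ f)) ≫ Proj.awayι 𝒜 f hf hd)

include hp in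
theorem eq_domMap : p = domMap φ :=
  (domCover φ).openCover.hom_ext _ _ fun (j : (n : ℕ+) × 𝒜 n) =>
    (hp j.1 j.2 j.1.pos j.2.2).trans (chart_domMap φ (j.2 : A) j.1.pos j.2.2).symm

include hp in
theorem preimage_basicOpen {e : ℕ} (g : A) (he : 0 < e) (hg : g ∈ 𝒜 e) :
    p ⁻¹ᵁ Proj.basicOpen 𝒜 g = (PCone.dom φ).ι ⁻¹ᵁ Proj.basicOpen ℬ (φ g) := by
  ext x
  obtain ⟨⟨⟨d, hd⟩, f, hf⟩, y, rfl⟩ := exists_chart φ x
  change (PCone.chart φ hf hd ≫ p).base y ∈ Proj.basicOpen 𝒜 g ↔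
    (PCone.chart φ hf hd ≫ (PCone.dom φ).ι).base y ∈ Proj.basicOpen ℬ (φ g)
  rw [hp d f hd hf, chart_ι]
  change y ∈ Spec.map _ ⁻¹ᵁ (Proj.awayι 𝒜 f hf hd ⁻¹ᵁ Proj.basicOpen 𝒜 g) ↔
    y ∈ Proj.awayι ℬ (φ f) (gmem φ hf) hd ⁻¹ᵁ Proj.basicOpen ℬ (φ g)
  rw [Proj.awayι_preimage_basicOpen 𝒜 hf hd hg he,
    Proj.awayι_preimage_basicOpen ℬ (gmem φ hf) hd (gmem φ hg) he]
  have key : Away.map φ f (Away.isLocalizationElem hf hg) = Away.isLocalizationElem (gmem φ hf) (gmem φ hg) := by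
    apply HomogeneousLocalization.val_injective
    rw [Away.map_mk φ f hf]
    simp [Away.val_mk, map_pow]
  rw [← key]
  rfl

theorem isAffineOpen_preimage {e : ℕ} (g : A) (he : 0 < e) (hg : g ∈ 𝒜 e) :
    IsAffineOpen ((PCone.dom φ).ι ⁻¹ᵁ Proj.basicOpen ℬ (φ g)) := by
  rw [← opensRange_chart φ hg he]
  exact isAffineOpen_opensRange _

include hp in
theorem isAffineHom_dom : IsAffineHom p := by
  refine isAffineHom_of_forall_exists_isAffineOpen _ fun x => ?_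
  obtain ⟨j, hx⟩ : ∃ j : (n : ℕ+) × 𝒜 n, x ∈ Proj.basicOpen 𝒜 (j.2 : A) := by
    by_contra! H
    refine x.not_irrelevant_le ((HomogeneousIdeal.toIdeal_irrelevant_le _).mpr fun m hm a ha => ?_)
    exact not_not.1 (H ⟨⟨m, hm⟩, a, ha⟩)
  exact ⟨_, hx, Proj.isAffineOpen_basicOpen 𝒜 _ j.2.2 j.1.pos, by
    rw [preimage_basicOpen φ p hp _ j.1.pos j.2.2]
    exact isAffineOpen_preimage φ _ j.1.pos j.2.2⟩

end GrothLib.Cone8
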