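import Groth.Agent.Lib.Cone8.FibreAlg
import Groth.Agent.Lib.Cone8.Affine
import Groth.Agent.Lib.Cone8.PCone
import Mathlib.AlgebraicGeometry.Morphisms.FiniteType
import Mathlib.AlgebraicGeometry.ResidueField

/-!
# Fibres of the retractions of the cones
-/

universe u

set_option backward.isDefEq.respectTransparency false
set_option maxHeartbeats 400000

open AlgebraicGeometry CategoryTheory CategoryTheory.Limits HomogeneousLocalization TopologicalSpace

noncomputable section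

namespace GrothLib.Cone8

theorem exists_residue_fac {Y : Scheme.{u}} {K : CommRingCat.{u}} (ι : Spec K ⟶ Y) [IsOpenImmersion ι] (x : Y)
    (hx : x ∈ ι.opensRange) :
    ∃ g : K ⟶ Y.residueField x, Spec.map g ≫ ι = Y.fromSpecResidueField x := by
  have hr : Set.range (Y.fromSpecResidueField x).base ⊆ Set.range ι.base := by
    rw [Scheme.range_fromSpecResidueField]
    exact Set.singleton_subset_iff.2 hx
  obtain ⟨g, hg⟩ := Spec.map_surjective (IsOpenImmersion.lift ι (Y.fromSpecResidueField x) hr)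
  exact ⟨g, by rw [hg, IsOpenImmersion.lift_fac]⟩

/-- A fibre over a point in a chart. -/
theorem exists_fibre_iso {X Y : Scheme.{u}} {π : X ⟶ Y} {K L κ L' : CommRingCat.{u}} {a : K ⟶ L} {c : Spec L ⟶ X}
    {ι : Spec K ⟶ Y} (hsq : IsPullback c (Spec.map a) π ι) {g : K ⟶ κ} {i : Spec κ ⟶ Y} (hg : Spec.map g ≫ ι = i)
    {a' : κ ⟶ L'} {b : L ⟶ L'} (hpo : IsPushout g a a' b) :
    ∃ e : pullback π i ≅ Spec L', e.hom ≫ Spec.map a' = pullback.snd π i := by
  have h1 : IsPullback (Spec.map b) (Spec.map a') (Spec.map a) (Spec.map g) :=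
    isPullback_SpecMap_of_isPushout _ _ _ _ hpo.flip
  have h2 := h1.paste_horiz hsq
  rw [hg] at h2
  exact ⟨h2.isoPullback.symm, by rw [Iso.symm_hom, IsPullback.isoPullback_inv_snd]⟩

theorem isPullback_iso {K L L₀ : CommRingCat.{u}} {X Y : Scheme.{u}} {π : X ⟶ Y} {a : K ⟶ L} {a₀ : K ⟶ L₀}
    {c : Spec L ⟶ X} {ι : Spec K ⟶ Y} (hsq : IsPullback c (Spec.map a) π ι) (e : L₀ ≅ L) (he : a₀ ≫ e.hom = a) :
    IsPullback (Spec.map e.inv ≫ c) (Spec.map a₀) π ι := by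
  refine IsPullback.of_iso hsq
    (Scheme.Spec.mapIso e.op) (Iso.refl _) (Iso.refl _) (Iso.refl _) ?_ ?_ (by simp) (by simp)
  · simp [← Spec.map_comp_assoc]
  · simp [← Spec.map_comp, he]

theorem locallyOfFiniteType_of_charts {X Y : Scheme.{u}} (π : X ⟶ Y) (𝒰 : Y.AffineOpenCover)
    (h : ∀ j, ∃ (L : CommRingCat.{u}) (a : 𝒰.X j ⟶ L) (c : Spec L ⟶ X),
      IsPullback c (Spec.map a) π (𝒰.f j) ∧ a.hom.FiniteType) :
    LocallyOfFiniteType π := by
  refine IsZariskiLocalAtTarget.of_openCover (P := @LocallyOfFiniteType) 𝒰.openCover fun j => ?_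
  obtain ⟨L, a, c, hc, ha⟩ := h j
  have h1 : LocallyOfFiniteType (Spec.map a) := (HasRingHomProperty.Spec_iff (P := @LocallyOfFiniteType)).2 ha
  have key : LocallyOfFiniteType (pullback.snd π (𝒰.f j)) := by
    rw [← hc.isoPullback_inv_snd]
    exact MorphismProperty.comp_mem _ _ _ (inferInstance) h1
  exact key

variable {R A : Type u} [CommRing R] [CommRing A] [Algebra R A] {𝒜 : ℕ → Submodule R A} [GradedAlgebra 𝒜]
  (hgen : (HomogeneousIdeal.irrelevant 𝒜).toIdeal = Ideal.span (𝒜 1 : Set A))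

include hgen in
theorem exists_degree_one_chart (x : Proj 𝒜) : ∃ f : 𝒜 1, x ∈ Proj.basicOpen 𝒜 (f : A) := by
  by_contra! H
  refine x.not_irrelevant_le (show (HomogeneousIdeal.irrelevant 𝒜).toIdeal ≤ x.asHomogeneousIdeal.toIdeal from ?_)
  rw [hgen, Ideal.span_le]
  exact fun f hf => not_not.1 (H ⟨f, hf⟩)

/-- The cover by charts of degree one. -/
def degOneCover : (Proj 𝒜).AffineOpenCover :=
  Proj.affineOpenCoverOfIrrelevantLESpan 𝒜 (fun f : 𝒜 1 => (f : A)) (m := fun _ => 1) (fun f => f.2)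
    (fun _ => Nat.one_pos) (by
      rw [hgen, Subtype.range_coe_subtype]
      exact le_of_eq rfl)

theorem isPullback_coneChart (π : (Cone.pointed 𝒜 : Scheme.{u}) ⟶ Proj 𝒜)
    (hπ : ∀ (d : ℕ) (f : A) (hd : 0 < d) (hf : f ∈ 𝒜 d), Cone.chart hf hd ≫ π = chartMap 𝒜 f hd hf)
    {d : ℕ} (f : A) (hd : 0 < d) (hf : f ∈ 𝒜 d) :
    IsPullback (Cone.chart hf hd) (Spec.map (CommRingCat.ofHom (algebraMap (Away 𝒜 f) (Localization.Away f))))
      π (Proj.awayι 𝒜 f hf hd) := by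
  refine (IsOpenImmersion.isPullback _ _ _ _ (hπ d f hd hf) ?_).flip
  rw [Proj.opensRange_awayι, coe_opensRange_coneChart, preimage_retraction π hπ f hd hf]

theorem isPullback_pconeChart {B : Type u} [CommRing B] [Algebra R B] {ℬ : ℕ → Submodule R B} [GradedAlgebra ℬ]
    (φ : 𝒜 →+*ᵍ ℬ) (p : (PCone.dom φ : Scheme.{u}) ⟶ Proj 𝒜)
    (hp : ∀ (d : ℕ) (f : A) (hd : 0 < d) (hf : f ∈ 𝒜 d), PCone.chart φ hf hd ≫ p =
      Spec.map (CommRingCat.ofHom (Away.map φ f)) ≫ Proj.awayι 𝒜 f hf hd)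
    {d : ℕ} (f : A) (hd : 0 < d) (hf : f ∈ 𝒜 d) :
    IsPullback (PCone.chart φ hf hd) (Spec.map (CommRingCat.ofHom (Away.map φ f))) p (Proj.awayι 𝒜 f hf hd) := by
  refine (IsOpenImmersion.isPullback _ _ _ _ (hp d f hd hf) ?_).flip
  rw [Proj.opensRange_awayι, opensRange_chart, preimage_basicOpen φ p hp f hd hf]

include hgen in
theorem fibre_retraction (π : (Cone.pointed 𝒜 : Scheme.{u}) ⟶ Proj 𝒜)
    (hπ : ∀ (d : ℕ) (f : A) (hd : 0 < d) (hf : f ∈ 𝒜 d), Cone.chart hf hd ≫ π = chartMap 𝒜 f hd hf) (x : Proj 𝒜) :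
    LocallyOfFiniteType π ∧ QuasiCompact π ∧
      ∃ e : pullback π ((Proj 𝒜).fromSpecResidueField x) ≅
          Spec (CommRingCat.of (LaurentPolynomial ((Proj 𝒜).residueField x))),
        e.hom ≫ Spec.map (CommRingCat.ofHom (algebraMap ((Proj 𝒜).residueField x)
          (LaurentPolynomial ((Proj 𝒜).residueField x)))) = pullback.snd π ((Proj 𝒜).fromSpecResidueField x) := by
  have := isAffineHom_retraction π hπ
  have hsq : ∀ f : 𝒜 1, ∃ c : Spec (CommRingCat.of (LaurentPolynomial (Away 𝒜 (f : A)))) ⟶ (Cone.pointed 𝒜 : Scheme.{u}),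
      IsPullback c (Spec.map (CommRingCat.ofHom (LaurentPolynomial.C : Away 𝒜 (f : A) →+* _))) π
        (Proj.awayι 𝒜 (f : A) f.2 Nat.one_pos) := by
    intro f
    obtain ⟨e, he⟩ := laurentEquiv_aux 𝒜 f.2
    exact ⟨_, isPullback_iso (a₀ := CommRingCat.ofHom (LaurentPolynomial.C : Away 𝒜 (f : A) →+* _))
      (isPullback_coneChart π hπ (f : A) Nat.one_pos f.2) e.toCommRingCatIso (CommRingCat.hom_ext (RingHom.ext he))⟩
  refine ⟨locallyOfFiniteType_of_charts π (degOneCover hgen) fun (f : 𝒜 1) => ?_, inferInstance, ?_⟩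
  · obtain ⟨c, hc⟩ := hsq f
    have hft : Algebra.FiniteType (Away 𝒜 (f : A)) (LaurentPolynomial (Away 𝒜 (f : A))) := inferInstance
    exact ⟨_, _, c, hc, RingHom.finiteType_algebraMap.2 hft⟩
  · obtain ⟨f, hx⟩ := exists_degree_one_chart hgen x
    obtain ⟨c, hc⟩ := hsq f
    obtain ⟨g, hg⟩ := exists_residue_fac (Proj.awayι 𝒜 (f : A) f.2 Nat.one_pos) x
      (by rw [Proj.opensRange_awayι]; exact hx)
    exact exists_fibre_iso hc hg (isPushout_laurent g)

include hgen in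
theorem fibre_pcone {B : Type u} [CommRing B] [Algebra R B] {ℬ : ℕ → Submodule R B} [GradedAlgebra ℬ] [Algebra A B]
    (φ : 𝒜 →+*ᵍ ℬ) (hφ : ∀ a : A, φ a = algebraMap A B a) {z : B} (hz : z ∈ ℬ 1)
    (hhat : Function.Bijective (Polynomial.aeval (R := A) z))
    (p : (PCone.dom φ : Scheme.{u}) ⟶ Proj 𝒜)
    (hp : ∀ (d : ℕ) (f : A) (hd : 0 < d) (hf : f ∈ 𝒜 d), PCone.chart φ hf hd ≫ p =
      Spec.map (CommRingCat.ofHom (Away.map φ f)) ≫ Proj.awayι 𝒜 f hf hd) (x : Proj 𝒜) :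
    LocallyOfFiniteType p ∧ QuasiCompact p ∧
      ∃ e : pullback p ((Proj 𝒜).fromSpecResidueField x) ≅
          Spec (CommRingCat.of (Polynomial ((Proj 𝒜).residueField x))),
        e.hom ≫ Spec.map (CommRingCat.ofHom (algebraMap ((Proj 𝒜).residueField x)
          (Polynomial ((Proj 𝒜).residueField x)))) = pullback.snd p ((Proj 𝒜).fromSpecResidueField x) := by
  have := isAffineHom_dom φ p hp
  have hsq : ∀ f : 𝒜 1, ∃ c : Spec (CommRingCat.of (Polynomial (Away 𝒜 (f : A)))) ⟶ (PCone.dom φ : Scheme.{u}),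
      IsPullback c (Spec.map (CommRingCat.ofHom (Polynomial.C : Away 𝒜 (f : A) →+* _))) p
        (Proj.awayι 𝒜 (f : A) f.2 Nat.one_pos) := by
    intro f
    obtain ⟨e, he⟩ := polyEquiv_aux 𝒜 f.2 φ hφ hz hhat
    exact ⟨_, isPullback_iso (a₀ := CommRingCat.ofHom (Polynomial.C : Away 𝒜 (f : A) →+* _))
      (isPullback_pconeChart φ p hp (f : A) Nat.one_pos f.2) e.toCommRingCatIso (CommRingCat.hom_ext (RingHom.ext he))⟩
  refine ⟨locallyOfFiniteType_of_charts p (degOneCover hgen) fun (f : 𝒜 1) => ?_, inferInstance, ?_⟩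
  · obtain ⟨c, hc⟩ := hsq f
    have hft : Algebra.FiniteType (Away 𝒜 (f : A)) (Polynomial (Away 𝒜 (f : A))) := inferInstance
    exact ⟨_, _, c, hc, RingHom.finiteType_algebraMap.2 hft⟩
  · obtain ⟨f, hx⟩ := exists_degree_one_chart hgen x
    obtain ⟨c, hc⟩ := hsq f
    obtain ⟨g, hg⟩ := exists_residue_fac (Proj.awayι 𝒜 (f : A) f.2 Nat.one_pos) x
      (by rw [Proj.opensRange_awayι]; exact hx)
    exact exists_fibre_iso hc hg (isPushout_poly g)

end GrothLib.Cone8
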