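import Groth.Agent.Lib.GradedAlg.VeroneseAway
import Mathlib.Algebra.Polynomial.Laurent
import Mathlib.Algebra.Category.Ring.Constructions
import Mathlib.RingTheory.FiniteType

/-!
# The cones over a chart of degree one
-/

universe u

set_option backward.isDefEq.respectTransparency false
set_option maxHeartbeats 400000

open CategoryTheory CategoryTheory.Limits DirectSum HomogeneousLocalization
open LaurentPolynomial (T)

noncomputable section

namespace GrothLib.Cone8

section Pushout

variable {R S : CommRingCat.{u}} (g : R ⟶ S)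

theorem laurent_ringHom_ext {R S : Type*} [CommRing R] [CommRing S] {φ ψ : LaurentPolynomial R →+* S}
    (hC : ∀ r, φ (LaurentPolynomial.C r) = ψ (LaurentPolynomial.C r)) (hT : φ (T 1) = ψ (T 1)) : φ = ψ := by
  refine IsLocalization.ringHom_ext (Submonoid.powers (Polynomial.X : Polynomial R)) (Polynomial.ringHom_ext ?_ ?_)
  · intro a
    simp only [RingHom.comp_apply, LaurentPolynomial.algebraMap_eq_toLaurent, Polynomial.toLaurent_C, hC]
  · simp only [RingHom.comp_apply, LaurentPolynomial.algebraMap_eq_toLaurent, Polynomial.toLaurent_X, hT]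

/-- `T` as a unit. -/
def unitT (R : Type*) [CommRing R] : (LaurentPolynomial R)ˣ :=
  ⟨T 1, T (-1), by rw [← LaurentPolynomial.T_add]; exact congrArg T (by ring),
    by rw [← LaurentPolynomial.T_add]; exact congrArg T (by ring)⟩

/-- The coefficientwise map. -/
def laurentMap {R S : Type*} [CommRing R] [CommRing S] (g : R →+* S) :
    LaurentPolynomial R →+* LaurentPolynomial S :=
  LaurentPolynomial.eval₂ (LaurentPolynomial.C.comp g) (unitT S)

theorem laurentMap_C {R S : Type*} [CommRing R] [CommRing S] (g : R →+* S) (r : R) :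
    laurentMap g (LaurentPolynomial.C r) = LaurentPolynomial.C (g r) :=
  LaurentPolynomial.eval₂_C _ _ r

theorem laurentMap_T {R S : Type*} [CommRing R] [CommRing S] (g : R →+* S) :
    laurentMap g (T 1) = T 1 := by
  rw [laurentMap, LaurentPolynomial.eval₂_T, zpow_one]
  rfl

theorem isPushout_laurent : IsPushout g (CommRingCat.ofHom (LaurentPolynomial.C : R →+* LaurentPolynomial R))
    (CommRingCat.ofHom (LaurentPolynomial.C : S →+* LaurentPolynomial S))
    (CommRingCat.ofHom (laurentMap g.hom)) := by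
  refine IsPushout.of_isColimit (PushoutCocone.IsColimit.mk ?w (fun t => ?desc) ?_ ?_ ?_)
  case w =>
    refine CommRingCat.hom_ext (RingHom.ext fun r => ?_)
    exact (laurentMap_C g.hom r).symm
  case desc =>
    exact CommRingCat.ofHom (LaurentPolynomial.eval₂ t.inl.hom
      (Units.map t.inr.hom.toMonoidHom (unitT R)))
  · intro t
    refine CommRingCat.hom_ext (RingHom.ext fun r => ?_)
    exact LaurentPolynomial.eval₂_C _ _ r
  · intro t
    refine CommRingCat.hom_ext (laurent_ringHom_ext (fun r => ?_) ?_)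
    · change LaurentPolynomial.eval₂ _ _ (laurentMap g.hom (LaurentPolynomial.C r)) = _
      rw [laurentMap_C, LaurentPolynomial.eval₂_C]
      exact congrArg (fun k : R ⟶ _ => k.hom r) t.condition
    · change LaurentPolynomial.eval₂ _ _ (laurentMap g.hom (T 1)) = _
      rw [laurentMap_T, LaurentPolynomial.eval₂_T, zpow_one]
      rfl
  · intro t m h1 h2
    refine CommRingCat.hom_ext (laurent_ringHom_ext (fun r => ?_) ?_)
    · change m.hom (LaurentPolynomial.C r) = LaurentPolynomial.eval₂ _ _ (LaurentPolynomial.C r)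
      rw [LaurentPolynomial.eval₂_C, ← h1]
      rfl
    · change m.hom (T 1) = LaurentPolynomial.eval₂ _ _ (T 1)
      rw [LaurentPolynomial.eval₂_T, zpow_one, ← laurentMap_T g.hom]
      exact congrArg (fun k => k.hom (T 1)) h2

theorem isPushout_poly : IsPushout g (CommRingCat.ofHom (Polynomial.C : R →+* Polynomial R))
    (CommRingCat.ofHom (Polynomial.C : S →+* Polynomial S))
    (CommRingCat.ofHom (Polynomial.mapRingHom g.hom)) := by
  refine IsPushout.of_isColimit (PushoutCocone.IsColimit.mk ?w (fun t => ?desc) ?_ ?_ ?_)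
  case w =>
    refine CommRingCat.hom_ext (RingHom.ext fun r => ?_)
    exact (Polynomial.map_C g.hom).symm
  case desc =>
    exact CommRingCat.ofHom (Polynomial.eval₂RingHom t.inl.hom (t.inr.hom Polynomial.X))
  · intro t
    refine CommRingCat.hom_ext (RingHom.ext fun r => ?_)
    exact Polynomial.eval₂_C _ _
  · intro t
    refine CommRingCat.hom_ext (Polynomial.ringHom_ext (fun r => ?_) ?_)
    · change Polynomial.eval₂ _ _ (Polynomial.map g.hom (Polynomial.C r)) = _
      rw [Polynomial.map_C, Polynomial.eval₂_C]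
      exact congrArg (fun k : R ⟶ _ => k.hom r) t.condition
    · change Polynomial.eval₂ _ _ (Polynomial.map g.hom Polynomial.X) = _
      rw [Polynomial.map_X, Polynomial.eval₂_X]

  · intro t m h1 h2
    refine CommRingCat.hom_ext (Polynomial.ringHom_ext (fun r => ?_) ?_)
    · change m.hom (Polynomial.C r) = Polynomial.eval₂ _ _ (Polynomial.C r)
      rw [Polynomial.eval₂_C, ← h1]
      rfl
    · change m.hom Polynomial.X = Polynomial.eval₂ _ _ Polynomial.X
      rw [Polynomial.eval₂_X, ← h2]
      change _ = m.hom (Polynomial.map g.hom Polynomial.X)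
      rw [Polynomial.map_X]

end Pushout

variable {R A : Type u} [CommRing R] [CommRing A] [Algebra R A] (𝒜 : ℕ → Submodule R A) [GradedAlgebra 𝒜]
  {f : A} (hf : f ∈ 𝒜 1)

theorem hdeg_id : ∀ n : ℕ, Submodule.map (AlgHom.id R A).toLinearMap (𝒜 n) = 𝒜 (n * 1) := fun n => by
  rw [mul_one]
  exact Submodule.map_id _

/-- `a ↦ a / f ^ n` in degree `n`. -/
def degOneHom : A →+* Away 𝒜 f :=
  GradedAlg.dehom 𝒜 𝒜 (AlgHom.id R A) (hdeg_id 𝒜) hf

theorem val_degOneHom {n : ℕ} {a : A} (ha : a ∈ 𝒜 n) :
    (degOneHom 𝒜 hf a).val = Localization.mk a ⟨f ^ n, pow_mem (Submonoid.mem_powers f) n⟩ :=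
  GradedAlg.val_dehom 𝒜 𝒜 (AlgHom.id R A) (hdeg_id 𝒜) hf ha

theorem degOneHom_self : degOneHom 𝒜 hf f = 1 :=
  GradedAlg.dehom_self 𝒜 𝒜 (AlgHom.id R A) (hdeg_id 𝒜) hf

theorem degOneHom_eq_mk {n : ℕ} {a : A} (ha : a ∈ 𝒜 n) :
    degOneHom 𝒜 hf a = Away.mk 𝒜 hf n a (by simpa using ha) := by
  apply val_injective
  rw [val_degOneHom 𝒜 hf ha, Away.val_mk]

/-- `a ↦ (a / f ^ n) T ^ n` in degree `n`. -/
def markPart (n : ℕ) : 𝒜 n →+ LaurentPolynomial (Away 𝒜 f) where
  toFun a := LaurentPolynomial.C (degOneHom 𝒜 hf (a : A)) * T (n : ℤ)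
  map_zero' := by simp
  map_add' a b := by simp [add_mul]

/-- The grading as powers of `T`. -/
def markHom : A →+* LaurentPolynomial (Away 𝒜 f) :=
  (DirectSum.toSemiring (markPart 𝒜 hf)
    (by simp [markPart])
    (fun {i j} x y => by
      simp only [markPart, AddMonoidHom.coe_mk, ZeroHom.coe_mk, SetLike.coe_gMul, map_mul, Nat.cast_add,
        LaurentPolynomial.T_add]
      ring)).comp (DirectSum.decomposeRingEquiv 𝒜).toRingHom

theorem markHom_apply {n : ℕ} {a : A} (ha : a ∈ 𝒜 n) :
    markHom 𝒜 hf a = LaurentPolynomial.C (degOneHom 𝒜 hf a) * T (n : ℤ) := by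
  have h : (DirectSum.decomposeRingEquiv 𝒜).toRingHom a = DirectSum.of (fun i => 𝒜 i) n ⟨a, ha⟩ :=
    DirectSum.decompose_of_mem 𝒜 ha
  rw [markHom, RingHom.comp_apply, h, DirectSum.toSemiring_of]
  rfl

theorem markHom_self : markHom 𝒜 hf f = T 1 := by
  rw [markHom_apply 𝒜 hf hf, degOneHom_self, map_one, one_mul, Nat.cast_one]

/-- `f` as a unit of `A_f`. -/
def unitSelf (f : A) : (Localization.Away f)ˣ := (IsLocalization.Away.algebraMap_isUnit f).unit

include hf in
theorem laurentEquiv_aux :
    ∃ e : LaurentPolynomial (Away 𝒜 f) ≃+* Localization.Away f,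
      ∀ y, e (LaurentPolynomial.C y) = algebraMap (Away 𝒜 f) (Localization.Away f) y := by
  classical
  let Φ : LaurentPolynomial (Away 𝒜 f) →+* Localization.Away f :=
    LaurentPolynomial.eval₂ (algebraMap (Away 𝒜 f) (Localization.Away f)) (unitSelf f)
  have hu : IsUnit (markHom 𝒜 hf f) := by rw [markHom_self]; exact (unitT _).isUnit
  let Ψ : Localization.Away f →+* LaurentPolynomial (Away 𝒜 f) := IsLocalization.Away.lift f hu
  have h1 : Φ.comp Ψ = RingHom.id _ := by
    refine IsLocalization.ringHom_ext (Submonoid.powers f) ?_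
    refine RingHom.ext fun a => ?_
    simp only [RingHom.comp_apply, Ψ, IsLocalization.Away.lift_eq, RingHom.id_apply]
    conv_lhs => rw [← DirectSum.sum_support_decompose 𝒜 a]
    conv_rhs => rw [← DirectSum.sum_support_decompose 𝒜 a]
    simp only [map_sum]
    refine Finset.sum_congr rfl fun n _ => ?_
    rw [markHom_apply 𝒜 hf (Subtype.coe_prop _), LaurentPolynomial.eval₂_C_mul_T_n,
      HomogeneousLocalization.algebraMap_apply, val_degOneHom 𝒜 hf (Subtype.coe_prop _), Localization.mk_eq_mk']
    rw [show ((unitSelf f : (Localization.Away f)ˣ) : Localization.Away f) ^ n = algebraMap A _ (f ^ n) by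
      rw [map_pow]; rfl]
    exact IsLocalization.mk'_spec _ (DirectSum.decompose 𝒜 a n : A) ⟨f ^ n, pow_mem (Submonoid.mem_powers f) n⟩
  have h2 : Ψ.comp Φ = RingHom.id _ := by
    refine laurent_ringHom_ext (fun y => ?_) ?_
    · obtain ⟨k, a, ha, rfl⟩ := Away.mk_surjective 𝒜 hf y
      simp only [RingHom.comp_apply, Φ, LaurentPolynomial.eval₂_C, RingHom.id_apply,
        HomogeneousLocalization.algebraMap_apply, Away.val_mk]
      refine ((hu.pow k).mul_left_inj).1 ?_
      have h4 : Localization.mk a (⟨f ^ k, pow_mem (Submonoid.mem_powers f) k⟩ : Submonoid.powers f) *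
          algebraMap A _ (f ^ k) = algebraMap A _ a := by
        rw [Localization.mk_eq_mk']
        exact IsLocalization.mk'_spec _ a (⟨f ^ k, pow_mem (Submonoid.mem_powers f) k⟩ : Submonoid.powers f)
      have h5 := congrArg Ψ h4
      simp only [map_mul, Ψ, IsLocalization.Away.lift_eq, map_pow] at h5
      rw [smul_eq_mul, mul_one] at ha
      rw [h5, markHom_apply 𝒜 hf ha, degOneHom_eq_mk 𝒜 hf ha, markHom_self, LaurentPolynomial.T_pow, mul_one]
    · simp only [RingHom.comp_apply, Φ, LaurentPolynomial.eval₂_T, zpow_one, RingHom.id_apply]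
      exact (IsLocalization.Away.lift_eq f hu f).trans (markHom_self 𝒜 hf)
  exact ⟨RingEquiv.ofRingHom Φ Ψ h1 h2, fun y => LaurentPolynomial.eval₂_C _ _ y⟩

section Poly

variable {B : Type u} [CommRing B] [Algebra R B] {ℬ : ℕ → Submodule R B} [GradedAlgebra ℬ] [Algebra A B]
  (φ : 𝒜 →+*ᵍ ℬ) (hφ : ∀ a : A, φ a = algebraMap A B a)
  {z : B} (hz : z ∈ ℬ 1) (hhat : Function.Bijective (Polynomial.aeval (R := A) z))

include hf hφ hz hhat in
theorem polyEquiv_aux :
    ∃ e : Polynomial (Away 𝒜 f) ≃+* Away ℬ (φ f),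
      ∀ y, e (Polynomial.C y) = Away.map φ f y := by
  classical
  have hf' : φ f ∈ ℬ 1 := φ.2 hf
  let Φ : Polynomial (Away 𝒜 f) →+* Away ℬ (φ f) := Polynomial.eval₂RingHom (Away.map φ f) (degOneHom ℬ hf' z)
  let eB : Polynomial A ≃+* B := RingEquiv.ofBijective (Polynomial.aeval (R := A) z).toRingHom hhat
  let ψ : B →+* Polynomial (Away 𝒜 f) := (Polynomial.mapRingHom (degOneHom 𝒜 hf)).comp eB.symm.toRingHom
  have hψφ : ∀ a, ψ (φ a) = Polynomial.C (degOneHom 𝒜 hf a) := fun a => by
    have h : eB.symm (φ a) = Polynomial.C a := by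
      rw [RingEquiv.symm_apply_eq, hφ]
      exact (Polynomial.aeval_C z a).symm
    change Polynomial.map _ (eB.symm (φ a)) = _
    rw [h, Polynomial.map_C]
  have hψz : ψ z = Polynomial.X := by
    have h : eB.symm z = Polynomial.X := by
      rw [RingEquiv.symm_apply_eq]
      exact (Polynomial.aeval_X z).symm
    change Polynomial.map _ (eB.symm z) = _
    rw [h, Polynomial.map_X]
  have hcomp : Φ.comp ψ = degOneHom ℬ hf' := by
    have h : (Φ.comp ψ).comp eB.toRingHom = (degOneHom ℬ hf').comp eB.toRingHom := by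
      refine Polynomial.ringHom_ext (fun a => ?_) ?_
      · have hC : eB.toRingHom (Polynomial.C a) = φ a := (Polynomial.aeval_C z a).trans (hφ a).symm
        simp only [RingHom.comp_apply, hC, hψφ]
        refine (Polynomial.eval₂_C _ _).trans ?_
        conv_lhs => rw [← DirectSum.sum_support_decompose 𝒜 a]
        conv_rhs => rw [← DirectSum.sum_support_decompose 𝒜 a]
        simp only [map_sum]
        refine Finset.sum_congr rfl fun n _ => ?_
        rw [degOneHom_eq_mk 𝒜 hf (Subtype.coe_prop _), Away.map_mk φ f hf,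
          degOneHom_eq_mk ℬ hf' (show φ (DirectSum.decompose 𝒜 a n : A) ∈ ℬ n from φ.2 (Subtype.coe_prop _))]
      · have hX : eB.toRingHom Polynomial.X = z := Polynomial.aeval_X z
        simp only [RingHom.comp_apply, hX, hψz]
        exact Polynomial.eval₂_X _ _
    refine RingHom.ext fun b => ?_
    obtain ⟨P, rfl⟩ := eB.surjective b
    exact RingHom.congr_fun h P
  have hu : IsUnit (ψ (φ f)) := by rw [hψφ, degOneHom_self, map_one]; exact isUnit_one
  let Ψ : Localization.Away (φ f) →+* Polynomial (Away 𝒜 f) := IsLocalization.Away.lift (φ f) hu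
  have hleft : ∀ P, Ψ (Φ P).val = P := by
    have h : (Ψ.comp (algebraMap (Away ℬ (φ f)) (Localization.Away (φ f)))).comp Φ = RingHom.id _ := by
      refine Polynomial.ringHom_ext (fun y => ?_) ?_
      · obtain ⟨k, a, ha, rfl⟩ := Away.mk_surjective 𝒜 hf y
        simp only [RingHom.comp_apply, Φ, Polynomial.coe_eval₂RingHom, Polynomial.eval₂_C, RingHom.id_apply,
          HomogeneousLocalization.algebraMap_apply, Away.map_mk φ f hf, Away.val_mk]
        refine ((hu.pow k).mul_left_inj).1 ?_
        have h4 : Localization.mk (φ a) (⟨φ f ^ k, pow_mem (Submonoid.mem_powers (φ f)) k⟩ : Submonoid.powers (φ f)) *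
            algebraMap B _ (φ f ^ k) = algebraMap B _ (φ a) := by
          rw [Localization.mk_eq_mk']
          exact IsLocalization.mk'_spec _ (φ a) (⟨φ f ^ k, pow_mem (Submonoid.mem_powers (φ f)) k⟩ : Submonoid.powers (φ f))
        have h5 := congrArg Ψ h4
        simp only [map_mul, Ψ, IsLocalization.Away.lift_eq, map_pow] at h5
        rw [smul_eq_mul, mul_one] at ha
        rw [h5, hψφ, hψφ, degOneHom_self, map_one, one_pow, mul_one, degOneHom_eq_mk 𝒜 hf ha]
      · simp only [RingHom.comp_apply, Φ, Polynomial.coe_eval₂RingHom, Polynomial.eval₂_X, RingHom.id_apply,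
          HomogeneousLocalization.algebraMap_apply]
        rw [val_degOneHom ℬ hf' hz]
        refine ((hu.pow 1).mul_left_inj).1 ?_
        have h4 : Localization.mk z (⟨φ f ^ 1, pow_mem (Submonoid.mem_powers (φ f)) 1⟩ : Submonoid.powers (φ f)) *
            algebraMap B _ (φ f ^ 1) = algebraMap B _ z := by
          rw [Localization.mk_eq_mk']
          exact IsLocalization.mk'_spec _ z (⟨φ f ^ 1, pow_mem (Submonoid.mem_powers (φ f)) 1⟩ : Submonoid.powers (φ f))
        have h5 := congrArg Ψ h4
        simp only [map_mul, Ψ, IsLocalization.Away.lift_eq, map_pow] at h5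
        rw [h5, hψz, hψφ, degOneHom_self, map_one, one_pow, mul_one]
    exact fun P => RingHom.congr_fun h P
  refine ⟨RingEquiv.ofBijective Φ ⟨fun P Q hPQ => ?_, fun w => ?_⟩, fun y => Polynomial.eval₂_C _ _⟩
  · rw [← hleft P, ← hleft Q, hPQ]
  · obtain ⟨k, b, hb, rfl⟩ := Away.mk_surjective ℬ hf' w
    rw [smul_eq_mul, mul_one] at hb
    exact ⟨ψ b, (RingHom.congr_fun hcomp b).trans (degOneHom_eq_mk ℬ hf' hb)⟩

end Poly

end GrothLib.Cone8
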