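import Groth.Agent.Lib.GradedAlg.ProjMap
import Mathlib.Algebra.Polynomial.AlgebraMap

/-!
# The graded algebra `S[z]` of a projective cone
-/

universe u

set_option backward.isDefEq.respectTransparency false
set_option maxHeartbeats 400000

open DirectSum HomogeneousLocalization Polynomial AlgebraicGeometry

namespace GrothLib.Cone8

variable {R A B : Type u} [CommRing R] [CommRing A] [Algebra R A] {𝒜 : ℕ → Submodule R A} [GradedAlgebra 𝒜]
  [CommRing B] [Algebra R B] {ℬ : ℕ → Submodule R B} [GradedAlgebra ℬ] [Algebra A B]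
  (φ : 𝒜 →+*ᵍ ℬ) (hφ : ∀ a : A, φ a = algebraMap A B a)
  {z : B} (hz : z ∈ ℬ 1) (hhat : Function.Bijective (Polynomial.aeval (R := A) z))

/-- `a ↦ φ a / z ^ n` on the piece of degree `n`. -/
noncomputable def polyPart (n : ℕ) : 𝒜 n →+ Away ℬ z where
  toFun a := Away.mk ℬ hz n (φ a) (by rw [smul_eq_mul, mul_one]; exact φ.2 a.2)
  map_zero' := by
    apply val_injective
    simp only [ZeroMemClass.coe_zero, map_zero, Away.val_mk, Localization.mk_zero, val_zero]
  map_add' a b := by
    apply val_injective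
    simp only [Submodule.coe_add, map_add, Away.val_mk, val_add, Localization.add_mk_self]

/-- `A ⟶ A[z]_(z)`. -/
noncomputable def polyHom : A →+* Away ℬ z :=
  (DirectSum.toSemiring (polyPart φ hz)
    (by
      apply val_injective
      simp [polyPart, Away.val_mk, Localization.mk_one])
    (fun {i j} x y => by
      apply val_injective
      simp only [polyPart, AddMonoidHom.coe_mk, ZeroHom.coe_mk, SetLike.coe_gMul, map_mul, Away.val_mk, val_mul,
        Localization.mk_mul]
      congr 1
      exact Subtype.ext (pow_add _ _ _))).comp (DirectSum.decomposeRingEquiv 𝒜).toRingHom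

theorem polyHom_apply {n : ℕ} {a : A} (ha : a ∈ 𝒜 n) :
    polyHom φ hz a = polyPart φ hz n ⟨a, ha⟩ := by
  have h : (DirectSum.decomposeRingEquiv 𝒜).toRingHom a = DirectSum.of (fun i => 𝒜 i) n ⟨a, ha⟩ :=
    DirectSum.decompose_of_mem 𝒜 ha
  rw [polyHom, RingHom.comp_apply, h, DirectSum.toSemiring_of]

theorem val_polyHom {n : ℕ} {a : A} (ha : a ∈ 𝒜 n) :
    (polyHom φ hz a).val = Localization.mk (φ a) ⟨z ^ n, pow_mem (Submonoid.mem_powers z) n⟩ := by
  rw [polyHom_apply φ hz ha]
  exact Away.val_mk ℬ n hz _ _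

include hφ hz hhat in
theorem polyHom_injective : Function.Injective (polyHom φ hz) := by
  classical
  rw [injective_iff_map_eq_zero]
  intro a ha
  let s := (DirectSum.decompose 𝒜 a).support
  let N := s.sup id
  have hN : ∀ n ∈ s, n ≤ N := fun n hn => Finset.le_sup (f := id) hn
  have hval : (polyHom φ hz a).val = Localization.mk (∑ n ∈ s, φ (DirectSum.decompose 𝒜 a n : A) * z ^ (N - n))
      (⟨z ^ N, pow_mem (Submonoid.mem_powers z) N⟩ : Submonoid.powers z) := by
    conv_lhs => rw [← DirectSum.sum_support_decompose 𝒜 a, map_sum]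
    rw [← HomogeneousLocalization.algebraMap_apply, map_sum, Localization.mk_sum]
    refine Finset.sum_congr rfl fun n hn => ?_
    rw [HomogeneousLocalization.algebraMap_apply, val_polyHom φ hz (Subtype.coe_prop _), Localization.mk_eq_mk_iff,
      Localization.r_iff_exists]
    refine ⟨1, ?_⟩
    simp only [Submonoid.coe_one, one_mul]
    conv_lhs => rw [← Nat.sub_add_cancel (hN n hn), pow_add]
    ring
  rw [ha, val_zero, ← Localization.mk_zero 1, eq_comm, Localization.mk_eq_mk_iff,
    Localization.r_iff_exists] at hval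
  obtain ⟨⟨c, k, rfl⟩, hc⟩ := hval
  simp only [Submonoid.coe_one, one_mul, mul_zero] at hc
  have hP : (∑ n ∈ s, Polynomial.monomial (k + (N - n)) (DirectSum.decompose 𝒜 a n : A)) = 0 := by
    refine hhat.injective ?_
    rw [map_zero, map_sum, ← hc, Finset.mul_sum]
    refine Finset.sum_congr rfl fun n _ => ?_
    rw [Polynomial.aeval_monomial, ← hφ, pow_add]
    ring
  rw [← DirectSum.sum_support_decompose 𝒜 a]
  refine Finset.sum_eq_zero fun n hn => ?_
  have h := congrArg (fun P : A[X] => P.coeff (k + (N - n))) hP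
  simp only [finset_sum_coeff, coeff_monomial, coeff_zero] at h
  rw [Finset.sum_eq_single n (fun m hm hmn => if_neg (by have := hN n hn; have := hN m hm; omega))
    (fun h' => absurd hn h'), if_pos rfl] at h
  exact h

include hz hφ hhat in
theorem polyHom_surjective : Function.Surjective (polyHom φ hz) := by
  classical
  intro w
  obtain ⟨k, b, hb, rfl⟩ := Away.mk_surjective ℬ hz w
  rw [smul_eq_mul, mul_one] at hb
  obtain ⟨P, rfl⟩ := hhat.surjective b
  let S := P.support.filter (· ≤ k)
  refine ⟨∑ j ∈ S, (DirectSum.decompose 𝒜 (P.coeff j) (k - j) : A), val_injective _ ?_⟩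
  have key : Polynomial.aeval z P = ∑ j ∈ S, φ (DirectSum.decompose 𝒜 (P.coeff j) (k - j) : A) * z ^ j := by
    calc Polynomial.aeval z P = (DirectSum.decompose ℬ (Polynomial.aeval z P) k : B) :=
          (DirectSum.decompose_of_mem_same ℬ hb).symm
      _ = ∑ j ∈ P.support, (DirectSum.decompose ℬ (φ (P.coeff j) * z ^ j) k : B) := by
          rw [Polynomial.aeval_def, Polynomial.eval₂_eq_sum, Polynomial.sum_def, DirectSum.decompose_sum,
            DFinsupp.finsetSum_apply, AddSubmonoidClass.coe_finsetSum]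
          exact Finset.sum_congr rfl fun j _ => by rw [hφ]
      _ = ∑ j ∈ S, (DirectSum.decompose ℬ (φ (P.coeff j) * z ^ j) k : B) := by
          refine (Finset.sum_subset (Finset.filter_subset _ _) fun j hj hjS => ?_).symm
          exact DirectSum.coe_decompose_mul_of_right_mem_of_not_le ℬ
            (by simpa using SetLike.pow_mem_graded j hz) fun h => hjS (Finset.mem_filter.2 ⟨hj, h⟩)
      _ = _ := Finset.sum_congr rfl fun j hj => by
          rw [DirectSum.coe_decompose_mul_of_right_mem_of_le ℬ (by simpa using SetLike.pow_mem_graded j hz)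
            (Finset.mem_filter.1 hj).2, GradedRingHom.map_directSumDecompose]
  rw [Away.val_mk, ← HomogeneousLocalization.algebraMap_apply, map_sum, map_sum, key, Localization.mk_sum]
  refine Finset.sum_congr rfl fun j hj => ?_
  rw [HomogeneousLocalization.algebraMap_apply, val_polyHom φ hz (Subtype.coe_prop _), Localization.mk_eq_mk_iff,
    Localization.r_iff_exists]
  refine ⟨1, ?_⟩
  simp only [Submonoid.coe_one, one_mul]
  rw [show z ^ k = z ^ (k - j) * z ^ j by rw [← pow_add, Nat.sub_add_cancel (Finset.mem_filter.1 hj).2]]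
  ring

/-- `A ≅ A[z]_(z)`. -/
noncomputable def polyEquiv : A ≃+* Away ℬ z :=
  RingEquiv.ofBijective (polyHom φ hz) ⟨polyHom_injective φ hφ hz hhat, polyHom_surjective φ hφ hz hhat⟩

variable (ψ : ℬ →+*ᵍ 𝒜) (hψφ : ∀ a : A, ψ (φ a) = a) (hψz : ψ z = 0)

include hφ hhat hψφ hψz in
theorem ker_retraction {b : B} (hb : ψ b = 0) : b ∈ Ideal.span {z} := by
  obtain ⟨P, rfl⟩ := hhat.surjective b
  have h : Polynomial.aeval z P = Polynomial.aeval z P.divX * z + φ (P.coeff 0) := by
    conv_lhs => rw [← Polynomial.divX_mul_X_add P]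
    rw [map_add, map_mul, aeval_X, aeval_C, ← hφ]
  rw [h, map_add, map_mul, hψz, mul_zero, zero_add, hψφ] at hb
  rw [h, hb, map_zero, add_zero]
  exact Ideal.mul_mem_left _ _ (Ideal.mem_span_singleton_self z)

include hψφ in
theorem retraction_surjective : Function.Surjective ψ := fun a => ⟨φ a, hψφ a⟩

include hφ hz hhat hψφ hψz in
theorem range_map_eq (hψ : HomogeneousIdeal.irrelevant 𝒜 ≤ (HomogeneousIdeal.irrelevant ℬ).map ψ) :
    Set.range (Proj.map ψ hψ).base = ((Proj.basicOpen ℬ z : Set (Proj ℬ)))ᶜ := by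
  classical
  ext q
  constructor
  · rintro ⟨x, rfl⟩ h
    have h' : x ∈ Proj.map ψ hψ ⁻¹ᵁ Proj.basicOpen ℬ z := h
    rw [Proj.map_preimage_basicOpen, hψz, Proj.basicOpen_zero] at h'
    exact h'
  · intro hq
    have hzq : z ∈ q.asHomogeneousIdeal.toIdeal := not_not.1 hq
    have hk : RingHom.ker ψ.toRingHom ≤ q.asHomogeneousIdeal.toIdeal := fun b hb =>
      (Ideal.span_singleton_le_iff_mem _).2 hzq (ker_retraction φ hφ hhat ψ hψφ hψz hb)
    let p : HomogeneousIdeal 𝒜 := q.asHomogeneousIdeal.map ψ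
    have hp : p.toIdeal = Ideal.map ψ.toRingHom q.asHomogeneousIdeal.toIdeal := rfl
    have hmem : ∀ b, ψ b ∈ p.toIdeal ↔ b ∈ q.asHomogeneousIdeal.toIdeal := fun b => by
      refine ⟨fun hb => ?_, fun hb => Ideal.mem_map_of_mem _ hb⟩
      obtain ⟨c, hc, hcb⟩ := (Ideal.mem_map_iff_of_surjective ψ.toRingHom (retraction_surjective φ ψ hψφ)).1 (hp ▸ hb)
      have : b - c ∈ RingHom.ker ψ.toRingHom := by
        rw [RingHom.mem_ker, map_sub, hcb]
        exact sub_self _
      exact (Submodule.sub_mem_iff_left _ hc).1 (hk this)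
    have hprime : p.toIdeal.IsPrime := by
      rw [hp]
      exact @Ideal.map_isPrime_of_surjective _ _ _ _ _ _ _ ψ.toRingHom (retraction_surjective φ ψ hψφ) _ q.isPrime hk
    have hirr : ¬ HomogeneousIdeal.irrelevant 𝒜 ≤ p := fun hle => by
      refine q.not_irrelevant_le ((HomogeneousIdeal.toIdeal_irrelevant_le _).mpr fun m hm b hb => ?_)
      exact (hmem b).1 (hle (HomogeneousIdeal.mem_irrelevant_of_mem 𝒜 hm (ψ.2 hb)))
    refine ⟨⟨p, hprime, hirr⟩, ProjectiveSpectrum.ext (HomogeneousIdeal.toIdeal_injective ?_)⟩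
    ext b
    exact hmem b

end GrothLib.Cone8
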