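import Groth.Agent.Lib.Cone8.PCone

/-!
# The section at infinity of the pointed projective cone
-/

universe u

set_option backward.isDefEq.respectTransparency false
set_option maxHeartbeats 400000

open AlgebraicGeometry CategoryTheory CategoryTheory.Limits HomogeneousLocalization TopologicalSpace

namespace GrothLib.Cone8

variable {R A B : Type u} [CommRing R] [CommRing A] [Algebra R A] {𝒜 : ℕ → Submodule R A} [GradedAlgebra 𝒜]
  [CommRing B] [Algebra R B] {ℬ : ℕ → Submodule R B} [GradedAlgebra ℬ] (φ : 𝒜 →+*ᵍ ℬ)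
  (ψ : ℬ →+*ᵍ 𝒜) (hψφ : ∀ a : A, ψ (φ a) = a)
  (hψ : HomogeneousIdeal.irrelevant 𝒜 ≤ (HomogeneousIdeal.irrelevant ℬ).map ψ)

include hψφ in
theorem range_map_subset_dom : Set.range (Proj.map ψ hψ).base ⊆ Set.range (PCone.dom φ).ι.base := by
  rw [Scheme.Opens.range_ι]
  rintro _ ⟨x, rfl⟩
  obtain ⟨j, hx⟩ : ∃ j : (n : ℕ+) × 𝒜 n, x ∈ Proj.basicOpen 𝒜 (j.2 : A) := by
    by_contra! H
    refine x.not_irrelevant_le ((HomogeneousIdeal.toIdeal_irrelevant_le _).mpr fun m hm a ha => ?_)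
    exact not_not.1 (H ⟨⟨m, hm⟩, a, ha⟩)
  refine Opens.mem_iSup.2 ⟨⟨j.2, j.1, j.1.pos, j.2.2⟩, ?_⟩
  change x ∈ Proj.map ψ hψ ⁻¹ᵁ Proj.basicOpen ℬ (φ (j.2 : A))
  rw [Proj.map_preimage_basicOpen, hψφ]
  exact hx

/-- The section at infinity. -/
noncomputable def atInfinity : Proj 𝒜 ⟶ (PCone.dom φ : Scheme.{u}) :=
  IsOpenImmersion.lift (PCone.dom φ).ι (Proj.map ψ hψ) (range_map_subset_dom φ ψ hψφ hψ)

theorem atInfinity_ι : atInfinity φ ψ hψφ hψ ≫ (PCone.dom φ).ι = Proj.map ψ hψ :=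
  IsOpenImmersion.lift_fac _ _ _

variable (p : (PCone.dom φ : Scheme.{u}) ⟶ Proj 𝒜)
  (hp : ∀ (d : ℕ) (f : A) (hd : 0 < d) (hf : f ∈ 𝒜 d), PCone.chart φ hf hd ≫ p =
    Spec.map (CommRingCat.ofHom (Away.map φ f)) ≫ Proj.awayι 𝒜 f hf hd)

include hp in
theorem atInfinity_comp : atInfinity φ ψ hψφ hψ ≫ p = 𝟙 _ := by
  refine (Proj.affineOpenCover 𝒜).openCover.hom_ext _ _ fun (j : (n : ℕ+) × 𝒜 n) => ?_
  obtain ⟨⟨d, hd⟩, f, hf⟩ := j
  change Proj.awayι 𝒜 f hf hd ≫ _ = Proj.awayι 𝒜 f hf hd ≫ _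
  have hx : f = ψ (φ f) * 1 := by rw [hψφ, mul_one]
  let θ : Away ℬ (φ f) →+* Away 𝒜 f :=
    (awayMap 𝒜 (SetLike.one_mem_graded 𝒜) hx).comp (Away.map ψ (φ f))
  have h1 : Proj.awayι 𝒜 f hf hd ≫ Proj.map ψ hψ =
      Spec.map (CommRingCat.ofHom θ) ≫ Proj.awayι ℬ (φ f) (gmem φ hf) hd := by
    have h := Proj.SpecMap_awayMap_awayι 𝒜 (f := ψ (φ f)) (gmem ψ (gmem φ hf)) hd (SetLike.one_mem_graded 𝒜) hx
    rw [← h, Category.assoc, Proj.awayι_comp_map ψ hψ hd (φ f) (gmem φ hf), CommRingCat.ofHom_comp, Spec.map_comp,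
      Category.assoc]
  have h2 : Proj.awayι 𝒜 f hf hd ≫ atInfinity φ ψ hψφ hψ =
      Spec.map (CommRingCat.ofHom θ) ≫ PCone.chart φ hf hd := by
    rw [← cancel_mono (PCone.dom φ).ι, Category.assoc, Category.assoc, atInfinity_ι, h1, chart_ι]
  have h3 : θ.comp (Away.map φ f) = RingHom.id _ := by
    ext y
    obtain ⟨k, a, ha, rfl⟩ := Away.mk_surjective 𝒜 hf y
    simp only [θ, RingHom.comp_apply, RingHom.id_apply, Away.map_mk φ f hf, Away.map_mk ψ (φ f) (gmem φ hf),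
      awayMap_mk, Away.val_mk, hψφ, one_pow, mul_one]
  rw [Category.comp_id, ← Category.assoc, h2, Category.assoc, hp d f hd hf, ← Spec.map_comp_assoc,
    ← CommRingCat.ofHom_comp, h3, CommRingCat.ofHom_id, Spec.map_id, Category.id_comp]

end GrothLib.Cone8
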