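import Groth.Agent.Lib.Cone8.PCone
import Groth.Agent.Lib.Ample.CocPullback
import Groth.Agent.Lib.GrTilde.Mul

/-!
# The inverse image of `O(n)` along the morphism of a graded homomorphism, in degree-one generation
-/

universe u

set_option autoImplicit false
set_option backward.isDefEq.respectTransparency false

open AlgebraicGeometry CategoryTheory TopologicalSpace Opposite HomogeneousLocalization
open GrothLib.InvExt (mres IsGen)
open GrothLib.Ample (Cocycle res)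
open GrothLib.Ample.ProjTwist (ev evT fracO)

noncomputable section

namespace GrothLib.Cone8

section awayι

variable {σ : Type*} {A : Type u} [CommRing A] [SetLike σ A] [AddSubgroupClass σ A] (𝒜 : ℕ → σ) [GradedRing 𝒜]

/-- The chart `awayι` on sections of its range. -/
theorem appLE_awayι_awayToSection {d : ℕ} {f : A} (hf : f ∈ 𝒜 d) (hd : 0 < d)
    (V : (Spec (CommRingCat.of (Away 𝒜 f))).Opens) (e : V ≤ Proj.awayι 𝒜 f hf hd ⁻¹ᵁ Proj.basicOpen 𝒜 f) :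
    Proj.awayToSection 𝒜 f ≫ (Proj.awayι 𝒜 f hf hd).appLE (Proj.basicOpen 𝒜 f) V e =
      (Scheme.ΓSpecIso _).inv ≫ (Spec (CommRingCat.of (Away 𝒜 f))).presheaf.map (homOfLE (le_top : V ≤ ⊤)).op := by
  have h1 : (Proj.basicOpenIsoSpec 𝒜 f hf hd).hom.appTop ≫ (Proj.basicOpenIsoSpec 𝒜 f hf hd).inv.appTop = 𝟙 _ := by
    rw [← Scheme.Hom.comp_appTop, Iso.inv_hom_id, Scheme.Hom.id_appTop]
  have h2 : (Proj.basicOpenIsoSpec 𝒜 f hf hd).hom.appTop =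
      (Scheme.ΓSpecIso _).hom ≫ Proj.awayToSection 𝒜 f ≫ (Proj.basicOpen 𝒜 f).topIso.inv := by
    rw [Proj.basicOpenIsoSpec_hom]
    exact Proj.basicOpenToSpec_app_top 𝒜 f
  rw [h2] at h1
  have h3 : Proj.awayToSection 𝒜 f ≫ (Proj.basicOpen 𝒜 f).topIso.inv ≫
      (Proj.basicOpenIsoSpec 𝒜 f hf hd).inv.appTop = (Scheme.ΓSpecIso _).inv := by
    rw [← cancel_epi (Scheme.ΓSpecIso (CommRingCat.of (Away 𝒜 f))).hom, Iso.hom_inv_id]
    simpa [Category.assoc] using h1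
  rw [← h3, Category.assoc, Category.assoc]
  congr 1
  have hle : (⊤ : (Proj.basicOpen 𝒜 f).toScheme.Opens) ≤ (Proj.basicOpen 𝒜 f).ι ⁻¹ᵁ Proj.basicOpen 𝒜 f :=
    fun z _ => z.2
  have hι : (Proj.basicOpen 𝒜 f).ι.appLE (Proj.basicOpen 𝒜 f) ⊤ hle = (Proj.basicOpen 𝒜 f).topIso.inv := by
    rw [Scheme.Opens.ι_appLE, Scheme.Opens.topIso_inv]
    rfl
  rw [← hι]
  exact (Scheme.Hom.appLE_comp_appLE (Proj.basicOpenIsoSpec 𝒜 f hf hd).inv (Proj.basicOpen 𝒜 f).ι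
    (Proj.basicOpen 𝒜 f) ⊤ V hle le_top).symm

end awayι

/-- The identity of fractions behind the transition functions of the twists. -/
theorem mk_transition {A : Type u} [CommRing A] {S : Submonoid A} {x y : A} (hx : x ∈ S) (hy : y ∈ S) (p q : ℕ) :
    (Localization.mk y (⟨x, hx⟩ : S) ^ p * Localization.mk x (⟨y, hy⟩ : S) ^ q) *
        Localization.mk (x ^ p) (⟨x ^ q, S.pow_mem hx q⟩ : S) =
      Localization.mk (y ^ p) (⟨y ^ q, S.pow_mem hy q⟩ : S) := by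
  rw [Localization.mk_pow, Localization.mk_pow, Localization.mk_mul, Localization.mk_mul, Localization.mk_eq_mk_iff,
    Localization.r_iff_exists]
  exact ⟨1, by simp only [Submonoid.coe_mul, SubmonoidClass.coe_pow, OneMemClass.coe_one]; ring⟩

variable {R A B : Type u} [CommRing R] [CommRing A] [Algebra R A] {𝒜 : ℕ → Submodule R A} [GradedAlgebra 𝒜]

theorem pow_mem_deg {x : A} (hx : x ∈ 𝒜 1) (m : ℕ) : x ^ m ∈ 𝒜 m := by
  simpa using SetLike.pow_mem_graded m hx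

theorem deg_eq (n : ℤ) : ((n.toNat : ℕ) : ℤ) = ((-n).toNat : ℕ) + n := by omega

/-- `x' / x` where `x` does not vanish. -/
abbrev ratioO {x x' : A} (hx : x ∈ 𝒜 1) (hx' : x' ∈ 𝒜 1) {V : (Proj 𝒜).Opens} (h : V ≤ Proj.basicOpen 𝒜 x) :
    Γ(Proj 𝒜, V) :=
  fracO x' x hx' hx fun y => h y.2

theorem awayToSection_mk {x x' : A} (hx : x ∈ 𝒜 1) (hx' : x' ∈ 𝒜 1) :
    (Proj.awayToSection 𝒜 x).hom (Away.mk 𝒜 hx 1 x' (by simpa using hx')) = ratioO hx hx' le_rfl := by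
  refine Ample.ProjTwist.ev_ext fun y => ?_
  show ((show Twist.O (op (Proj.basicOpen 𝒜 x)) from
    (Proj.awayToSection 𝒜 x).hom (Away.mk 𝒜 hx 1 x' (by simpa using hx'))).1 y).val = _
  rw [Ample.ProjTwist.ev_fracO]
  erw [ProjectiveSpectrum.Proj.awayToSection_apply]
  simp only [Away.val_mk, Localization.mk_eq_mk']
  erw [IsLocalization.map_mk']
  simp

variable (𝒜) in
/-- The cocycle of `O(n)` on the cover by degree one elements. -/
def twistCocycle {ι : Type u} (x : ι → A) (hx : ∀ i, x i ∈ 𝒜 1) (hcov : ⨆ i, Proj.basicOpen 𝒜 (x i) = ⊤) (n : ℤ) :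
    Cocycle (Proj 𝒜) where
  ι := ι
  D i := Proj.basicOpen 𝒜 (x i)
  g i j := res inf_le_left (ratioO (hx i) (hx j) le_rfl) ^ n.toNat *
    res inf_le_right (ratioO (hx j) (hx i) le_rfl) ^ (-n).toNat
  cover := hcov
  self i W h := by
    refine Ample.ProjTwist.ev_ext fun y => ?_
    rw [Ample.ProjTwist.ev_res, Ample.ProjTwist.ev_one, Ample.ProjTwist.ev_mul, Ample.ProjTwist.ev_pow,
      Ample.ProjTwist.ev_pow]
    erw [Ample.ProjTwist.ev_fracO]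
    show Localization.mk (x i) (⟨x i, h y.2⟩ : y.1.asHomogeneousIdeal.toIdeal.primeCompl) ^ n.toNat *
      Localization.mk (x i) (⟨x i, h y.2⟩ : y.1.asHomogeneousIdeal.toIdeal.primeCompl) ^ (-n).toNat = 1
    rw [Localization.mk_self (⟨x i, h y.2⟩ : y.1.asHomogeneousIdeal.toIdeal.primeCompl), one_pow, one_pow, one_mul]
  change i j k W hi hj hk := by
    refine Ample.ProjTwist.ev_ext fun y => ?_
    simp only [Ample.ProjTwist.ev_res, Ample.ProjTwist.ev_mul, Ample.ProjTwist.ev_pow, Ample.ProjTwist.ev_fracO,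
      Localization.mk_pow, Localization.mk_mul]
    rw [Localization.mk_eq_mk_iff, Localization.r_iff_exists]
    exact ⟨1, by simp only [OneMemClass.coe_one, Submonoid.coe_mul, SubmonoidClass.coe_pow]; ring⟩

theorem nonempty_twist_iso_cocycle {ι : Type u} (x : ι → A) (hx : ∀ i, x i ∈ 𝒜 1)
    (hcov : ⨆ i, Proj.basicOpen 𝒜 (x i) = ⊤) (n : ℤ) :
    Nonempty (Twist.twist 𝒜 n ≅ (twistCocycle 𝒜 x hx hcov n).twist 1) := by
  let c := twistCocycle 𝒜 x hx hcov n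
  let m : ∀ i, Γ(Twist.twist 𝒜 n, c.D i) := fun i =>
    GrTilde.fracT (x i ^ n.toNat) (x i ^ (-n).toNat) (pow_mem_deg (hx i) _) (pow_mem_deg (hx i) _)
      (fun (y : (Proj.basicOpen 𝒜 (x i) : (Proj 𝒜).Opens)) hm => y.2 (y.1.isPrime.mem_of_pow_mem _ hm)) (deg_eq n)
  have hm : c.IsFamily 1 m := fun i j W hi hj => by
    refine Ample.ProjTwist.evT_ext fun y => ?_
    rw [Ample.ProjTwist.evT_smul, pow_one, Ample.ProjTwist.evT_mres, Ample.ProjTwist.evT_mres]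
    change evT ⟨y.1, hj y.2⟩ (m j) = ev y (res (le_inf hi hj) (c.g i j)) * evT ⟨y.1, hi y.2⟩ (m i)
    simp only [c, m, twistCocycle]
    rw [GrTilde.evT_fracT, GrTilde.evT_fracT, Ample.ProjTwist.ev_res, Ample.ProjTwist.ev_mul,
      Ample.ProjTwist.ev_pow, Ample.ProjTwist.ev_pow, Ample.ProjTwist.ev_res, Ample.ProjTwist.ev_res,
      Ample.ProjTwist.ev_fracO, Ample.ProjTwist.ev_fracO]
    exact (mk_transition (S := y.1.asHomogeneousIdeal.toIdeal.primeCompl) (hi y.2) (hj y.2) _ _).symm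
  haveI := c.isIso_homOfFamily hm fun i => GrTilde.isGen_fracT (pow_mem_deg (hx i) _) (pow_mem_deg (hx i) _)
    (fun (y : (Proj.basicOpen 𝒜 (x i) : (Proj 𝒜).Opens)) hm => y.2 (y.1.isPrime.mem_of_pow_mem _ hm)) (fun (y : (Proj.basicOpen 𝒜 (x i) : (Proj 𝒜).Opens)) hm => y.2 (y.1.isPrime.mem_of_pow_mem _ hm)) (deg_eq n)
  exact ⟨(asIso (c.homOfFamily hm)).symm⟩

variable [CommRing B] [Algebra R B] {ℬ : ℕ → Submodule R B} [GradedAlgebra ℬ] (φ : 𝒜 →+*ᵍ ℬ)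
  (p : (PCone.dom φ : Scheme.{u}) ⟶ Proj 𝒜)
  (hp : ∀ (d : ℕ) (f : A) (hd : 0 < d) (hf : f ∈ 𝒜 d), PCone.chart φ hf hd ≫ p =
    Spec.map (CommRingCat.ofHom (Away.map φ f)) ≫ Proj.awayι 𝒜 f hf hd)

include hp in
/-- The morphism on the degree zero fractions. -/
theorem appLE_awayToSection {d : ℕ} (f : A) (hd : 0 < d) (hf : f ∈ 𝒜 d) (U : (PCone.dom φ : Scheme.{u}).Opens)
    (hU : U ≤ p ⁻¹ᵁ Proj.basicOpen 𝒜 f) (hU' : U ≤ (PCone.dom φ).ι ⁻¹ᵁ Proj.basicOpen ℬ (φ f)) :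
    Proj.awayToSection 𝒜 f ≫ p.appLE (Proj.basicOpen 𝒜 f) U hU =
      CommRingCat.ofHom (Away.map φ f : Away 𝒜 f →+* Away ℬ (φ f)) ≫ Proj.awayToSection ℬ (φ f) ≫
        (PCone.dom φ).ι.appLE (Proj.basicOpen ℬ (φ f)) U hU' := by
  let q := PCone.chart φ hf hd
  haveI : IsIso (q.app U) := q.isIso_app U (by rw [opensRange_chart]; exact hU')
  rw [← cancel_mono (q.app U), Category.assoc, Category.assoc, Category.assoc]
  have e1 : p.appLE (Proj.basicOpen 𝒜 f) U hU ≫ q.app U =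
      (q ≫ p).appLE (Proj.basicOpen 𝒜 f) (q ⁻¹ᵁ U) (q.preimage_mono hU) := by
    rw [Scheme.Hom.app_eq_appLE, Scheme.Hom.appLE_comp_appLE]
  have e2 : (PCone.dom φ).ι.appLE (Proj.basicOpen ℬ (φ f)) U hU' ≫ q.app U =
      (q ≫ (PCone.dom φ).ι).appLE (Proj.basicOpen ℬ (φ f)) (q ⁻¹ᵁ U) (q.preimage_mono hU') := by
    rw [Scheme.Hom.app_eq_appLE, Scheme.Hom.appLE_comp_appLE]
  rw [e1, e2]
  simp only [q, hp d f hd hf, chart_ι]
  rw [← Scheme.Hom.appLE_comp_appLE (Spec.map (CommRingCat.ofHom (Away.map φ f))) (Proj.awayι 𝒜 f hf hd)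
    (Proj.basicOpen 𝒜 f) ⊤ _ (le_of_eq (by rw [← Proj.opensRange_awayι 𝒜 f hf hd, Scheme.Hom.preimage_opensRange]))
    le_top, ← Category.assoc, appLE_awayι_awayToSection, appLE_awayι_awayToSection]
  simp only [homOfLE_refl, op_id, CategoryTheory.Functor.map_id, Category.comp_id]
  rw [← Category.assoc, Scheme.ΓSpecIso_inv_naturality, Category.assoc]
  rfl

include hp in
theorem appLE_ratioO {x x' : A} (hx : x ∈ 𝒜 1) (hx' : x' ∈ 𝒜 1) (U : (PCone.dom φ : Scheme.{u}).Opens)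
    (hU : U ≤ p ⁻¹ᵁ Proj.basicOpen 𝒜 x) (hU' : U ≤ (PCone.dom φ).ι ⁻¹ᵁ Proj.basicOpen ℬ (φ x)) :
    (p.appLE (Proj.basicOpen 𝒜 x) U hU).hom (ratioO hx hx' le_rfl) =
      ((PCone.dom φ).ι.appLE (Proj.basicOpen ℬ (φ x)) U hU').hom (ratioO (gmem φ hx) (gmem φ hx') le_rfl) := by
  rw [← awayToSection_mk hx hx', ← awayToSection_mk (gmem φ hx) (gmem φ hx')]
  refine (congr($(appLE_awayToSection φ p hp x one_pos hx U hU hU') (Away.mk 𝒜 hx 1 x' (by simpa using hx')))).trans ?_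
  simp only [CommRingCat.hom_comp, RingHom.comp_apply, CommRingCat.hom_ofHom, Away.map_mk]

include hp in
theorem appLE_g {ι' : Type u} (x : ι' → A) (hx : ∀ i, x i ∈ 𝒜 1) (hcov : ⨆ i, Proj.basicOpen 𝒜 (x i) = ⊤) (n : ℤ)
    (i j : ι') (W : (PCone.dom φ : Scheme.{u}).Opens)
    (hW : W ≤ p ⁻¹ᵁ (Proj.basicOpen 𝒜 (x i) ⊓ Proj.basicOpen 𝒜 (x j)))
    (hWi : W ≤ (PCone.dom φ).ι ⁻¹ᵁ Proj.basicOpen ℬ (φ (x i)))
    (hWj : W ≤ (PCone.dom φ).ι ⁻¹ᵁ Proj.basicOpen ℬ (φ (x j))) :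
    (p.appLE (Proj.basicOpen 𝒜 (x i) ⊓ Proj.basicOpen 𝒜 (x j)) W hW).hom ((twistCocycle 𝒜 x hx hcov n).g i j) =
      ((PCone.dom φ).ι.appLE (Proj.basicOpen ℬ (φ (x i))) W hWi).hom
          (ratioO (gmem φ (hx i)) (gmem φ (hx j)) le_rfl) ^ n.toNat *
        ((PCone.dom φ).ι.appLE (Proj.basicOpen ℬ (φ (x j))) W hWj).hom
          (ratioO (gmem φ (hx j)) (gmem φ (hx i)) le_rfl) ^ (-n).toNat := by
  let F := (p.appLE (Proj.basicOpen 𝒜 (x i) ⊓ Proj.basicOpen 𝒜 (x j)) W hW).hom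
  show F (res inf_le_left (ratioO (hx i) (hx j) le_rfl) ^ n.toNat *
    res inf_le_right (ratioO (hx j) (hx i) le_rfl) ^ (-n).toNat) = _
  rw [map_mul, map_pow, map_pow]
  refine congrArg₂ (· * ·) (congrArg (· ^ n.toNat) ?_) (congrArg (· ^ (-n).toNat) ?_)
  · exact (Ample.appLE_res p inf_le_left hW _).trans (appLE_ratioO φ p hp (hx i) (hx j) W _ hWi)
  · exact (Ample.appLE_res p inf_le_right hW _).trans (appLE_ratioO φ p hp (hx j) (hx i) W _ hWj)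

include hp in
theorem nonempty_pullback_twist_iso (hgen : (HomogeneousIdeal.irrelevant 𝒜).toIdeal = Ideal.span (𝒜 1 : Set A))
    (n : ℤ) : Nonempty ((Scheme.Modules.pullback p).obj (Twist.twist 𝒜 n) ≅
      (Twist.twist ℬ n).restrict (PCone.dom φ).ι) := by
  let x : 𝒜 1 → A := fun a => a.1
  have hcov : ⨆ i, Proj.basicOpen 𝒜 (x i) = ⊤ := eq_top_iff.mpr fun y _ => by
    obtain ⟨f, hf, hy⟩ := GrTilde.exists_degree_one hgen y
    exact Opens.mem_iSup.mpr ⟨⟨f, hf⟩, hy⟩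
  let c := twistCocycle 𝒜 x (fun i => i.2) hcov n
  obtain ⟨e⟩ := nonempty_twist_iso_cocycle x (fun i => i.2) hcov n
  obtain ⟨d⟩ := c.nonempty_pullback_iso p e
  let M := (Twist.twist ℬ n).restrict (PCone.dom φ).ι
  let ι := (PCone.dom φ).ι
  have hD : ∀ i : 𝒜 1, ι ''ᵁ (p ⁻¹ᵁ c.D i) ≤ Proj.basicOpen ℬ (φ (x i)) := fun i => by
    rintro _ ⟨z, hz, rfl⟩
    have hz' : z ∈ p ⁻¹ᵁ Proj.basicOpen 𝒜 (x i) := hz
    rw [preimage_basicOpen φ p hp (x i) one_pos i.2] at hz'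
    exact hz'
  have nin : ∀ (m : ℕ) (i : 𝒜 1) (V : (Proj ℬ).Opens), V ≤ Proj.basicOpen ℬ (φ (x i)) →
      ∀ y : V, φ (x i) ^ m ∉ y.1.asHomogeneousIdeal :=
    fun m i V hV y hm => hV y.2 (y.1.isPrime.mem_of_pow_mem _ hm)
  let b : ∀ i : 𝒜 1, Γ(M, p ⁻¹ᵁ c.D i) := fun i =>
    (show Γ(Twist.twist ℬ n, ι ''ᵁ (p ⁻¹ᵁ c.D i)) from
      GrTilde.fracT (φ (x i) ^ n.toNat) (φ (x i) ^ (-n).toNat) (pow_mem_deg (gmem φ i.2) _)
        (pow_mem_deg (gmem φ i.2) _) (nin _ i _ (hD i)) (deg_eq n))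
  have hb : (c.comap p).IsFamily 1 b := fun i j W hi hj => by
    rw [pow_one, c.comap_G p i j hi hj]
    rw [InvExt.restrict_mres ι (Twist.twist ℬ n) hi, InvExt.restrict_mres ι (Twist.twist ℬ n) hj]
    refine Ample.ProjTwist.evT_ext fun y => ?_
    obtain ⟨z, hz, hzy⟩ := y.2
    have hWi : W ≤ ι ⁻¹ᵁ Proj.basicOpen ℬ (φ (x i)) := fun w hw => hD i ⟨w, hi hw, rfl⟩
    have hWj : W ≤ ι ⁻¹ᵁ Proj.basicOpen ℬ (φ (x j)) := fun w hw => hD j ⟨w, hj hw, rfl⟩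
    have hg := appLE_g φ p hp x (fun i => i.2) hcov n i j W (le_inf hi hj) hWi hWj
    rw [show (p.appLE (c.D i ⊓ c.D j) W (le_inf hi hj)).hom (c.g i j) = _ from hg]
    have hev : ∀ (a : B) {k : B} (ha : a ∈ ℬ 1) (hk : k ∈ ℬ 1) (hW : W ≤ ι ⁻¹ᵁ Proj.basicOpen ℬ k)
        (hy : k ∉ y.1.asHomogeneousIdeal),
        ev y ((ι.appIso W).inv ((ι.appLE (Proj.basicOpen ℬ k) W hW).hom (ratioO hk ha le_rfl))) =
          Localization.mk a ⟨k, hy⟩ := fun a k ha hk hW hy => by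
      rw [Scheme.Opens.ι_appIso, Scheme.Opens.ι_appLE]
      exact Ample.ProjTwist.ev_fracO _ _ _ _ _ _
    show evT y (mres (Twist.twist ℬ n) _ _) =
      evT y ((ι.appIso W).inv (_ ^ n.toNat * _ ^ (-n).toNat) • mres (Twist.twist ℬ n) _ _)
    rw [Ample.ProjTwist.evT_smul, map_mul, map_pow, map_pow, Ample.ProjTwist.ev_mul, Ample.ProjTwist.ev_pow,
      Ample.ProjTwist.ev_pow, Ample.ProjTwist.evT_mres, Ample.ProjTwist.evT_mres]
    rw [hev _ (gmem φ j.2) (gmem φ i.2) hWi (hzy ▸ hWi hz), hev _ (gmem φ i.2) (gmem φ j.2) hWj (hzy ▸ hWj hz)]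
    erw [GrTilde.evT_fracT, GrTilde.evT_fracT]
    exact (mk_transition (S := y.1.asHomogeneousIdeal.toIdeal.primeCompl) _ _ _ _).symm
  haveI := (c.comap p).isIso_homOfFamily hb fun i => InvExt.isGen_restrict ι (Twist.twist ℬ n)
    (GrTilde.isGen_fracT (pow_mem_deg (gmem φ i.2) _) (pow_mem_deg (gmem φ i.2) _) (nin _ i _ (hD i))
      (nin _ i _ (hD i)) (deg_eq n))
  exact ⟨d ≪≫ asIso ((c.comap p).homOfFamily hb)⟩

end GrothLib.Cone8
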